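import Cfsg.Agent.SUFour96.IsoPlanesRoot

/-! Maximality in the special unitary group of the stabiliser of two complementary totally isotropic
planes, for a field of order at least sixteen. -/

set_option autoImplicit false
set_option linter.unusedSectionVars false

namespace CfsgLib.SUFour96.IsoPlanes

open CfsgLib.UnitGeo

open Cfsg Module CfsgLib.Unitary
open scoped Matrix MatrixGroups

variable {F : Type*} [Field F] {n q : ℕ} {U W : Submodule F (Fin n → F)}
variable [Fintype F] (hF : Fintype.card F = q ^ 2)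
include hF

section OverGroup

variable {H : Subgroup (GL (Fin n) F)}
variable (hH : ∀ g ∈ H, ∀ x y, hermForm n F q ((g : Matrix (Fin n) (Fin n) F) *ᵥ x)
  ((g : Matrix (Fin n) (Fin n) F) *ᵥ y) = hermForm n F q x y)
variable (hp : ∀ u ∈ U, ∀ w ∈ W, hermForm n F q u w = 0 → MIn H (rMat q u w))
include hH hp

/-- A transvection with non-orthogonal parts gives one in the first half. -/
lemma mixed_pure (h : Halves q U W) {vU vW : Fin n → F} (hvU : vU ∈ U) (hvW : vW ∈ W)
    (hne : hermForm n F q vU vW ≠ 0) (hvv : hermForm n F q (vU + vW) (vU + vW) = 0) {g0 : F} (hg0 : g0 ≠ 0)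
    (htr : g0 + g0 ^ q = 0) (hv : MIn H (tMat q (vU + vW) g0)) :
    ∃ c k, c ∈ U ∧ c ≠ 0 ∧ k ≠ 0 ∧ k + k ^ q = 0 ∧ MIn H (tMat q c k) := by
  obtain ⟨c, hcU, hc0, hcv⟩ := h.exists_ortho (q := q) vW
  have hv0 : vU ≠ 0 := fun e => hne (by rw [e, herm_zero_left])
  have hvUc : vU ∉ Submodule.span F {c} ⊔ Submodule.span F {c} := by
    rw [sup_idem]
    intro hm
    obtain ⟨r, hr⟩ := Submodule.mem_span_singleton.1 hm
    exact hne (by rw [← hr, herm_smul_left, hcv, mul_zero])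
  obtain ⟨d, hdW, hcd, -, hvd⟩ := h.exists_dual hF hvU hcU hcU hvUc
  have hcc := h.left c hcU c hcU
  have hvc : hermForm n F q (vU + vW) c = 0 := by
    rw [herm_add_left, h.left vU hvU c hcU, herm_eq_zero_comm hF hcv, add_zero]
  have hshift : ∀ α : F, MIn H (tMat q (vU + vW + α • c) g0) := by
    intro α
    have hαc : hermForm n F q ((-α) • c) ((-α) • c) = 0 := by rw [herm_self_smul, hcc, mul_zero]
    have h1 := conj_mem_tMat hF hH hp hv (hp ((-α) • c) (U.smul_mem _ hcU) d hdW (by rw [herm_smul_left, hcd, mul_zero]))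
    rwa [rMat_mulVec hαc, herm_smul_right, hvc, mul_zero, zero_smul, add_zero, herm_add_left, hvd,
      h.right vW hvW d hdW, add_zero, one_smul, sub_eq_add_neg, neg_smul, neg_neg] at h1
  have hneg : ∀ x : Fin n → F, hermForm n F q x x = 0 → MIn H (tMat q x g0) → MIn H (tMat q x (-g0)) :=
    fun x hx hm => hm.of_mul_eq_one (by rw [tMat_mul hF hx, add_neg_cancel, tMat_zero hF])
  have hiso : ∀ α : F, hermForm n F q (vU + vW + α • c) (vU + vW + α • c) = 0 := by
    intro α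
    rw [herm_add_left (vU + vW) (α • c), herm_add_right hF (vU + vW), herm_add_right hF (α • c) (vU + vW),
      hvv, herm_smul_left, herm_smul_left, herm_smul_right, herm_smul_right, hvc, hcc, herm_eq_zero_comm hF hvc]
    ring
  obtain ⟨α, hα⟩ : ∃ α : F, α + α ^ q ≠ 0 := by
    obtain ⟨x, hx⟩ := exists_trace_eq hF (a := 1) (one_pow q)
    exact ⟨x, by rw [hx]; exact one_ne_zero⟩
  have hc : MIn H (tMat q c (g0 * (α + α ^ q))) := by
    rw [← tMat_polar hF hvv hcc hvc g0 α]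
    have h1 := hshift 1
    rw [one_smul] at h1
    have hiso1 := hiso 1
    rw [one_smul] at hiso1
    exact (((hshift (α + 1)).mul (hneg _ (hiso α) (hshift α))).mul (hneg _ hiso1 h1)).mul hv
  set k := g0 * (α + α ^ q) with hk
  refine ⟨c, g0 * (α + α ^ q), hcU, hc0, mul_ne_zero hg0 hα, ?_, hc⟩
  rw [mul_pow, add_pow_q hF, pow_q_q hF, eq_neg_of_add_eq_zero_right htr]
  ring

/-- A transvection at a vector of the first half gives all of them. -/
lemma pure_spread (h : Halves q U W) {c : Fin n → F} (hcU : c ∈ U) (hc0 : c ≠ 0) {k : F} (hk0 : k ≠ 0)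
    (hkt : k + k ^ q = 0) (hc : MIn H (tMat q c k)) :
    ∀ u ∈ U, ∀ t : F, t + t ^ q = 0 → MIn H (tMat q u t) := by
  have hkq : k ^ q = -k := eq_neg_of_add_eq_zero_right hkt
  have move : ∀ p r : Fin n → F, p ∈ U → r ∈ U → r ∉ Submodule.span F {p} → MIn H (tMat q p k) →
      p ≠ 0 → MIn H (tMat q r k) := by
    intro p r hpU hrU hr hmem hp0
    have hnp : p ∉ Submodule.span F {r - p} ⊔ Submodule.span F {r - p} := by
      rw [sup_idem]
      intro hm
      obtain ⟨s, hs⟩ := Submodule.mem_span_singleton.1 hm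
      have hs0 : s ≠ 0 := by rintro rfl; exact hp0 (by rw [← hs, zero_smul])
      refine hr ((Submodule.smul_mem_iff _ hs0).1 ?_)
      rw [show s • r = p + s • p by rw [← add_left_inj (-(s • p)), add_neg_cancel_right, ← sub_eq_add_neg, ← smul_sub, hs]]
      exact Submodule.add_mem _ (Submodule.mem_span_singleton_self _) (Submodule.smul_mem _ s (Submodule.mem_span_singleton_self _))
    obtain ⟨d, hdW, hrd, -, hpd⟩ := h.exists_dual hF hpU (U.sub_mem hrU hpU) (U.sub_mem hrU hpU) hnp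
    have h1 := conj_mem_tMat hF hH hp hmem (hp (r - p) (U.sub_mem hrU hpU) (-d) (W.neg_mem hdW)
      (by rw [herm_neg_right hF, hrd, neg_zero]))
    rwa [rMat_mulVec (h.left _ (U.sub_mem hrU hpU) _ (U.sub_mem hrU hpU)), h.left p hpU _ (U.sub_mem hrU hpU),
      herm_neg_right hF, hpd, zero_smul, add_zero, neg_smul, one_smul, sub_neg_eq_add, add_sub_cancel] at h1
  have hall : ∀ u ∈ U, MIn H (tMat q u k) := by
    intro u hu
    by_cases hu0 : u = 0
    · refine ⟨1, H.one_mem, matrix_ext fun x => ?_⟩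
      rw [tMat_mulVec, hu0, smul_zero, add_zero, Units.val_one, Matrix.one_mulVec]
    by_cases huc : u ∈ Submodule.span F {c}
    · obtain ⟨e, heU, heN⟩ := h.exists_mem_not_span c
      have he0 : e ≠ 0 := fun h0 => heN (h0 ▸ zero_mem _)
      refine move e u heU hu (fun hm => ?_) (move c e hcU heU heN hc hc0) he0
      obtain ⟨r, hr⟩ := Submodule.mem_span_singleton.1 hm
      have hr0 : r ≠ 0 := by rintro rfl; exact hu0 (by rw [← hr, zero_smul])
      exact heN ((Submodule.smul_mem_iff _ hr0).1 (hr.symm ▸ huc))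
    · exact move c u hcU hu huc hc hc0
  intro u hu t ht
  obtain ⟨s, hs⟩ := exists_norm_eq hF (a := t / k) (by
    rw [div_pow, hkq, eq_neg_of_add_eq_zero_right ht, neg_div_neg_eq])
  have h1 := hall (s • u) (U.smul_mem _ hu)
  rwa [tMat_smul hF, hs, mul_div_cancel₀ _ hk0] at h1

end OverGroup

/-- An element of the special unitary group exchanging the two halves. -/
lemma Halves.exists_swap (h : Halves q U W) : ∃ s ∈ Cfsg.GU n F q ⊓ Cfsg.Geo.specialLinear (Fin n) F,
    (∀ x ∈ U, (s : Matrix (Fin n) (Fin n) F) *ᵥ x ∈ W) ∧ (∀ x ∈ W, (s : Matrix (Fin n) (Fin n) F) *ᵥ x ∈ U) := by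
  obtain ⟨u, w, hu, hw, hd, hsu, hsw⟩ := h.exists_dual_bases hF
  have hd' : ∀ i j, hermForm n F q (w j) (u i) = if i = j then 1 else 0 := by
    intro i j
    rw [herm_conj hF, hd]
    split <;> simp [zero_pow_q hF]
  obtain ⟨c, hc0, hc⟩ := exists_trace_zero_ne_zero hF
  have huu : ∀ i j, hermForm n F q (u i) (u j) = 0 := fun i j => h.left _ (hu i) _ (hu j)
  have hww : ∀ i j, hermForm n F q (w i) (w j) = 0 := fun i j => h.right _ (hw i) _ (hw j)
  classical
  suffices key : ∀ S : Finset (Fin (finrank F U)), ∃ s ∈ Cfsg.GU n F q ⊓ Cfsg.Geo.specialLinear (Fin n) F,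
      (∀ j, (s : Matrix (Fin n) (Fin n) F) *ᵥ u j = if j ∈ S then (-c⁻¹) • w j else u j) ∧
      (∀ j, (s : Matrix (Fin n) (Fin n) F) *ᵥ w j = if j ∈ S then c • u j else w j) by
    obtain ⟨s, hs, h1, h2⟩ := key Finset.univ
    refine ⟨s, hs, fun x hx => ?_, fun x hx => ?_⟩
    · rw [← hsu] at hx
      induction hx using Submodule.span_induction with
      | mem y hy => obtain ⟨j, rfl⟩ := hy; rw [h1, if_pos (Finset.mem_univ j)]; exact W.smul_mem _ (hw j)
      | zero => rw [Matrix.mulVec_zero]; exact W.zero_mem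
      | add y z _ _ hy hz => rw [Matrix.mulVec_add]; exact W.add_mem hy hz
      | smul a y _ hy => rw [Matrix.mulVec_smul]; exact W.smul_mem _ hy
    · rw [← hsw] at hx
      induction hx using Submodule.span_induction with
      | mem y hy => obtain ⟨j, rfl⟩ := hy; rw [h2, if_pos (Finset.mem_univ j)]; exact U.smul_mem _ (hu j)
      | zero => rw [Matrix.mulVec_zero]; exact U.zero_mem
      | add y z _ _ hy hz => rw [Matrix.mulVec_add]; exact U.add_mem hy hz
      | smul a y _ hy => rw [Matrix.mulVec_smul]; exact U.smul_mem _ hy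
  intro S
  induction S using Finset.induction_on with
  | empty => exact ⟨1, one_mem _, fun j => by simp, fun j => by simp⟩
  | insert i S hiS ih =>
    obtain ⟨s, hs, h1, h2⟩ := ih
    obtain ⟨g1, hg1, e1⟩ := exists_tMat_mem hF (huu i i) hc
    obtain ⟨g2, hg2, e2⟩ := exists_tMat_mem hF (hww i i) (neg_inv_trace_zero hF hc)
    refine ⟨g1 * g2 * g1 * s, mul_mem (mul_mem (mul_mem hg1 hg2) hg1) hs, fun j => ?_, fun j => ?_⟩ <;>
      rw [Units.val_mul, Units.val_mul, Units.val_mul, ← Matrix.mulVec_mulVec, ← Matrix.mulVec_mulVec,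
        ← Matrix.mulVec_mulVec, e1, e2]
    · rw [h1]
      by_cases hji : j = i
      · subst hji
        rw [if_neg hiS, if_pos (Finset.mem_insert_self _ _)]
        simp only [tMat_mulVec, herm_add_left, herm_smul_left, huu, hww, hd, hd', if_true]
        match_scalars <;> field_simp <;> ring
      · by_cases hjS : j ∈ S
        · rw [if_pos hjS, if_pos (Finset.mem_insert_of_mem hjS)]
          simp only [tMat_mulVec, herm_add_left, herm_smul_left, huu, hww, hd, hd', if_neg hji, if_neg (Ne.symm hji)]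
          module
        · rw [if_neg hjS, if_neg (by simp [hji, hjS])]
          simp only [tMat_mulVec, herm_add_left, herm_smul_left, huu, hww, hd, hd', if_neg hji, if_neg (Ne.symm hji)]
          module
    · rw [h2]
      by_cases hji : j = i
      · subst hji
        rw [if_neg hiS, if_pos (Finset.mem_insert_self _ _)]
        simp only [tMat_mulVec, herm_add_left, herm_smul_left, huu, hww, hd, hd', if_true]
        match_scalars <;> field_simp <;> ring
      · by_cases hjS : j ∈ S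
        · rw [if_pos hjS, if_pos (Finset.mem_insert_of_mem hjS)]
          simp only [tMat_mulVec, herm_add_left, herm_smul_left, huu, hww, hd, hd', if_neg hji, if_neg (Ne.symm hji)]
          module
        · rw [if_neg hjS, if_neg (by simp [hji, hjS])]
          simp only [tMat_mulVec, herm_add_left, herm_smul_left, huu, hww, hd, hd', if_neg hji, if_neg (Ne.symm hji)]
          module

/-- The stabiliser of an isotropic pair is maximal in the special unitary group. -/
theorem halves_isMaximal (h32 : ¬ (n = 3 ∧ q = 2)) (hq : 4 ≤ q) (h : Halves q U W) (P : Subgroup (GL (Fin n) F))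
    (hP : ∀ g, g ∈ P ↔ g ∈ Cfsg.GU n F q ⊓ Cfsg.Geo.specialLinear (Fin n) F ∧
      ((∀ x ∈ U, (g : Matrix (Fin n) (Fin n) F) *ᵥ x ∈ U) ∧ (∀ x ∈ W, (g : Matrix (Fin n) (Fin n) F) *ᵥ x ∈ W) ∨
       (∀ x ∈ U, (g : Matrix (Fin n) (Fin n) F) *ᵥ x ∈ W) ∧ (∀ x ∈ W, (g : Matrix (Fin n) (Fin n) F) *ᵥ x ∈ U))) :
    Cfsg.Geo.IsMaximalIn (Cfsg.GU n F q ⊓ Cfsg.Geo.specialLinear (Fin n) F) P := by
  have hd := h.dim
  have hsame := h.same
  have hsplit : ∀ v : Fin n → F, ∃ p ∈ U, ∃ r ∈ W, p + r = v := fun v =>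
    Submodule.mem_sup.1 (h.top ▸ Submodule.mem_top)
  have hinfb : U ⊓ W = ⊥ := (Submodule.eq_bot_iff _).2 fun x hx => h.inf x hx.1 hx.2
  have hcard := Submodule.finrank_sup_add_finrank_inf_eq U W
  rw [h.top, finrank_top, finrank_fintype_fun_eq_card, Fintype.card_fin, hinfb, finrank_bot] at hcard
  have hPUW : ∀ u ∈ U, ∀ w ∈ W, hermForm n F q u w = 0 → MIn P (rMat q u w) := by
    intro u hu w hw huw
    obtain ⟨g, hg, e⟩ := exists_rMat_mem hF (h.left u hu u hu) (h.right w hw w hw) huw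
    refine ⟨g, (hP _).2 ⟨hg, Or.inl ⟨fun x hx => ?_, fun x hx => ?_⟩⟩, e⟩
    · rw [e, rMat_mulVec (h.left u hu u hu), h.left x hx u hu, zero_smul, add_zero]
      exact U.sub_mem hx (U.smul_mem _ hu)
    · rw [e, rMat_mulVec (h.left u hu u hu), h.right x hx w hw, zero_smul, sub_zero]
      exact W.add_mem hx (W.smul_mem _ hw)
  refine ⟨lt_of_le_not_ge (fun g hg => ((hP g).1 hg).1) fun hle => ?_, fun M hPM hMG => ?_⟩
  · obtain ⟨u, huU, hu0⟩ := Submodule.exists_mem_ne_zero_of_ne_bot (p := U) (by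
      intro h0; rw [h0, finrank_bot] at hd; omega)
    obtain ⟨x, hxW, -, -, hux⟩ := h.exists_dual hF (v := u) (p := 0) (r := 0) huU U.zero_mem U.zero_mem
      (by simpa using hu0)
    obtain ⟨c, hc0, hc⟩ := exists_trace_zero_ne_zero hF
    obtain ⟨g, hg, e⟩ := exists_tMat_mem hF (h.left u huU u huU) hc
    obtain ⟨-, hfix⟩ := (hP _).1 (hle hg)
    rcases hfix with ⟨-, h1⟩ | ⟨h1, -⟩
    · have h2 := W.sub_mem (h1 x hxW) hxW
      rw [e, tMat_mulVec, add_sub_cancel_left, herm_conj hF u x, hux, one_pow, mul_one] at h2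
      exact hu0 (h.inf u huU ((Submodule.smul_mem_iff _ hc0).1 h2))
    · have h2 := h1 u huU
      rw [e, tMat_mulVec, h.left u huU u huU, mul_zero, zero_smul, add_zero] at h2
      exact hu0 (h.inf u huU h2)
  by_cases hMP : M ≤ P
  · exact Or.inl (le_antisymm hMP hPM)
  refine Or.inr (le_antisymm hMG ?_)
  have hMI : ∀ g ∈ M, ∀ x y, hermForm n F q ((g : Matrix (Fin n) (Fin n) F) *ᵥ x)
      ((g : Matrix (Fin n) (Fin n) F) *ᵥ y) = hermForm n F q x y := fun g hg => (hMG hg).1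
  have hUW : ∀ u ∈ U, ∀ w ∈ W, hermForm n F q u w = 0 → MIn M (rMat q u w) :=
    fun u hu w hw h' => (hPUW u hu w hw h').mono hPM
  have hWU : ∀ w ∈ W, ∀ u ∈ U, hermForm n F q w u = 0 → MIn M (rMat q w u) := fun w hw u hu h' =>
    (hUW u hu w hw (herm_eq_zero_comm hF h')).of_mul_eq_one
      (rMat_neg_mul hF (h.left u hu u hu) (h.right w hw w hw) (herm_eq_zero_comm hF h'))
  obtain ⟨g, hgM, hgP⟩ := SetLike.not_le_iff_exists.1 hMP
  have hgI := hMI g hgM
  have htorM : ∀ x ∈ Cfsg.GU n F q ⊓ Cfsg.Geo.specialLinear (Fin n) F,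
      (∀ z ∈ U, (x : Matrix (Fin n) (Fin n) F) *ᵥ z ∈ U) → (∀ z ∈ W, (x : Matrix (Fin n) (Fin n) F) *ᵥ z ∈ W) →
      x ∈ M := fun x hx h1 h2 => hPM ((hP x).2 ⟨hx, Or.inl ⟨h1, h2⟩⟩)
  have hsrc : GoodSrc q U W M := by
    by_contra hno
    have hhalf : ∀ X Y : Submodule F (Fin n → F), Halves q X Y →
        (∀ x ∈ X, ∀ y ∈ Y, hermForm n F q x y = 0 → MIn M (rMat q x y)) →
        ∀ x ∈ X, (g : Matrix (Fin n) (Fin n) F) *ᵥ x ∈ U ∨ (g : Matrix (Fin n) (Fin n) F) *ᵥ x ∈ W := by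
      intro X Y hXY hmem x hx
      obtain ⟨p, hp, r, hr, hpr⟩ := hsplit ((g : Matrix (Fin n) (Fin n) F) *ᵥ x)
      by_contra hc
      push Not at hc
      have hp0 : p ≠ 0 := by rintro rfl; rw [zero_add] at hpr; exact hc.2 (hpr ▸ hr)
      have hr0 : r ≠ 0 := by rintro rfl; rw [add_zero] at hpr; exact hc.1 (hpr ▸ hp)
      have hx0 : x ≠ 0 := by rintro rfl; exact hc.1 (by rw [Matrix.mulVec_zero]; exact U.zero_mem)
      obtain ⟨y, hyY, hy0, hyx⟩ := hXY.symm.exists_ortho (q := q) x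
      have hxx := hXY.left x hx x hx
      have hxy := herm_eq_zero_comm hF hyx
      have hba : hermForm n F q (p + r) ((g : Matrix (Fin n) (Fin n) F) *ᵥ y) = 0 := by rw [hpr, hgI, hxy]
      have haa : hermForm n F q ((g : Matrix (Fin n) (Fin n) F) *ᵥ y) ((g : Matrix (Fin n) (Fin n) F) *ᵥ y) = 0 := by
        rw [hgI, hXY.right y hyY y hyY]
      have hab : (g : Matrix (Fin n) (Fin n) F) *ᵥ y ∉ Submodule.span F {p + r} := fun hm => by
        obtain ⟨j, hj⟩ := Submodule.mem_span_singleton.1 hm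
        rw [hpr, ← Matrix.mulVec_smul] at hj
        have := congrArg (((g⁻¹ : GL (Fin n) F) : Matrix (Fin n) (Fin n) F) *ᵥ ·) hj
        simp only [Matrix.mulVec_mulVec, Units.inv_mul, Matrix.one_mulVec] at this
        exact hy0 (hXY.inf y (this ▸ X.smul_mem j hx) hyY)
      have hroot : ∀ s : F, MIn M (rMat q (p + r) (s • ((g : Matrix (Fin n) (Fin n) F) *ᵥ y))) := by
        intro s
        obtain ⟨k, hk, hke⟩ := hmem x hx (s • y) (Y.smul_mem s hyY) (by rw [herm_smul_right, hxy, mul_zero])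
        refine ⟨g * k * g⁻¹, M.mul_mem (M.mul_mem hgM hk) (M.inv_mem hgM), ?_⟩
        rw [Units.val_mul, Units.val_mul, hke, conj_rMat hF hgI _ hxx, hpr, Matrix.mulVec_smul]
      by_cases hf : hermForm n F q p r = 0
      · exact hno (root_split hF hMI h hUW hWU htorM hq hp hr hp0 hr0 hf haa hba hab hroot)
      · exact hno (root_generic hF hMI h hUW hWU htorM hq hp hr hf (by rw [hpr, hgI, hxx]) haa hba hab hroot)
    have hwhole : ∀ X : Submodule F (Fin n → F),
        (∀ x ∈ X, (g : Matrix (Fin n) (Fin n) F) *ᵥ x ∈ U ∨ (g : Matrix (Fin n) (Fin n) F) *ᵥ x ∈ W) →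
        (∀ x ∈ X, (g : Matrix (Fin n) (Fin n) F) *ᵥ x ∈ U) ∨ (∀ x ∈ X, (g : Matrix (Fin n) (Fin n) F) *ᵥ x ∈ W) := by
      intro X hX
      by_contra hc
      push Not at hc
      obtain ⟨⟨x, hx, hxU⟩, ⟨y, hy, hyW⟩⟩ := hc
      have hxW := (hX x hx).resolve_left hxU
      have hyU := (hX y hy).resolve_right hyW
      rcases hX (x + y) (X.add_mem hx hy) with h' | h' <;> rw [Matrix.mulVec_add] at h'
      · exact hxU (by simpa using U.sub_mem h' hyU)
      · exact hyW (by simpa using W.sub_mem h' hxW)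
    have hboth : ∀ X : Submodule F (Fin n → F), finrank F X < n →
        ¬ ((∀ x ∈ U, (g : Matrix (Fin n) (Fin n) F) *ᵥ x ∈ X) ∧ (∀ x ∈ W, (g : Matrix (Fin n) (Fin n) F) *ᵥ x ∈ X)) := by
      rintro X hlt ⟨h1, h2⟩
      have : (⊤ : Submodule F (Fin n → F)) ≤ X := fun v _ => by
        obtain ⟨p, hp, r, hr, hpr⟩ := hsplit (((g⁻¹ : GL (Fin n) F) : Matrix (Fin n) (Fin n) F) *ᵥ v)
        have e : v = (g : Matrix (Fin n) (Fin n) F) *ᵥ (((g⁻¹ : GL (Fin n) F) : Matrix (Fin n) (Fin n) F) *ᵥ v) := by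
          rw [Matrix.mulVec_mulVec, Units.mul_inv, Matrix.one_mulVec]
        rw [e, ← hpr, Matrix.mulVec_add]
        exact X.add_mem (h1 p hp) (h2 r hr)
      have := Submodule.finrank_mono this
      rw [finrank_top, finrank_fintype_fun_eq_card, Fintype.card_fin] at this
      omega
    refine hgP ((hP g).2 ⟨hMG hgM, ?_⟩)
    rcases hwhole U (hhalf U W h hUW) with h1 | h1 <;> rcases hwhole W (hhalf W U h.symm hWU) with h2 | h2
    · exact absurd ⟨h1, h2⟩ (hboth U (by omega))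
    · exact Or.inl ⟨h1, h2⟩
    · exact Or.inr ⟨h1, h2⟩
    · exact absurd ⟨h1, h2⟩ (hboth W (by omega))
  obtain ⟨s, hsG, hsU, hsW⟩ := h.exists_swap hF
  have hsM : s ∈ M := hPM ((hP s).2 ⟨hsG, Or.inr ⟨hsU, hsW⟩⟩)
  have transport : ∀ X Y : Submodule F (Fin n → F), (∀ y ∈ Y, (s : Matrix (Fin n) (Fin n) F) *ᵥ y ∈ X) →
      (∀ x ∈ X, ∀ t : F, t + t ^ q = 0 → MIn M (tMat q x t)) →
      ∀ y ∈ Y, ∀ t : F, t + t ^ q = 0 → MIn M (tMat q y t) := by
    intro X Y hYX hX y hy t ht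
    obtain ⟨k, hk, e⟩ := hX _ (hYX y hy) t ht
    refine ⟨s⁻¹ * k * s⁻¹⁻¹, M.mul_mem (M.mul_mem (M.inv_mem hsM) hk) (M.inv_mem (M.inv_mem hsM)), ?_⟩
    rw [Units.val_mul, Units.val_mul, e, conj_tMat hF (hMI _ (M.inv_mem hsM)), Matrix.mulVec_mulVec, Units.inv_mul,
      Matrix.one_mulVec]
  obtain ⟨v, c0, hgood, hv0, hvv, hc0, hc0t, hv⟩ := hsrc
  obtain ⟨hUall, hWall⟩ : (∀ x ∈ U, ∀ t : F, t + t ^ q = 0 → MIn M (tMat q x t)) ∧
      (∀ x ∈ W, ∀ t : F, t + t ^ q = 0 → MIn M (tMat q x t)) := by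
    rcases hgood with hvU | hvW | ⟨p, hp, r, hr, rfl, hpr⟩
    · have := pure_spread hF hMI hUW h hvU hv0 hc0 hc0t hv
      exact ⟨this, transport U W hsW this⟩
    · have := pure_spread hF hMI hWU h.symm hvW hv0 hc0 hc0t hv
      exact ⟨transport W U hsU this, this⟩
    · obtain ⟨c, k, hcU, hc, hk, hkt, hm⟩ := mixed_pure hF hMI hUW h hp hr hpr hvv hc0 hc0t hv
      have := pure_spread hF hMI hUW h hcU hc hk hkt hm
      exact ⟨this, transport U W hsW this⟩
  have hne : ∀ p ∈ U, ∀ r ∈ W, hermForm n F q r p ≠ 0 → hermForm n F q r p + hermForm n F q r p ^ q = 0 →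
      ∀ t : F, t + t ^ q = 0 → MIn M (tMat q (p + r) t) := by
    intro p hp r hr hne htr t ht
    have hi : (hermForm n F q r p)⁻¹ + (hermForm n F q r p)⁻¹ ^ q = 0 := by
      rw [inv_pow_q, eq_neg_of_add_eq_zero_right htr, inv_neg, add_neg_cancel]
    obtain ⟨k, hk, e⟩ := hUall p hp _ hi
    obtain ⟨k', hk', e'⟩ := hWall r hr t ht
    refine ⟨k * k' * k⁻¹, M.mul_mem (M.mul_mem hk hk') (M.inv_mem hk), ?_⟩
    rw [Units.val_mul, Units.val_mul, e', conj_tMat hF (hMI k hk), e, tMat_mulVec, inv_mul_cancel₀ hne, one_smul,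
      add_comm r p]
  refine le_of_tMat_mem hF h32 fun v t hv ht => ?_
  obtain ⟨p, hp, r, hr, rfl⟩ := hsplit v
  by_cases hr0 : r = 0
  · rw [hr0, add_zero]; exact hUall p hp t ht
  have htr : hermForm n F q r p + hermForm n F q r p ^ q = 0 := by
    rw [← herm_conj hF r p]
    rw [herm_add_left, herm_add_right hF, herm_add_right hF, h.left p hp p hp, h.right r hr r hr] at hv
    linear_combination hv
  by_cases hpr : hermForm n F q r p = 0
  swap
  · exact hne p hp r hr hpr htr t ht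
  obtain ⟨u0, hu0U, -, -, hru0⟩ := h.symm.exists_dual hF (v := r) (p := 0) (r := 0) hr W.zero_mem W.zero_mem
    (by simpa using hr0)
  obtain ⟨δ, hδ0, hδ⟩ := exists_trace_zero_ne_zero hF
  set u := δ ^ q • u0 with hu
  have huU : u ∈ U := U.smul_mem _ hu0U
  have hru : hermForm n F q r u = δ := by rw [hu, herm_smul_right, hru0, mul_one, pow_q_q hF]
  have hd' : hermForm n F q r (p - u) = -δ := by rw [herm_sub_right hF, hpr, hru, zero_sub]
  obtain ⟨k', hk', e'⟩ := hne (p - u) (U.sub_mem hp huU) r hr (by rw [hd']; exact neg_ne_zero.2 hδ0)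
    (by rw [hd', neg_pow_q hF]; linear_combination -hδ) t ht
  obtain ⟨k, hk, e⟩ := hUall u huU δ⁻¹ (by rw [inv_pow_q, eq_neg_of_add_eq_zero_right hδ, inv_neg, add_neg_cancel])
  refine ⟨k * k' * k⁻¹, M.mul_mem (M.mul_mem hk hk') (M.inv_mem hk), ?_⟩
  rw [Units.val_mul, Units.val_mul, e', conj_tMat hF (hMI k hk), e, tMat_mulVec, herm_add_left,
    h.left _ (U.sub_mem hp huU) u huU, hru, zero_add, inv_mul_cancel₀ hδ0, one_smul]
  congr 1
  abel

omit hF in
/-- A decomposition into two totally isotropic planes has maximal stabiliser. -/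
theorem pair_maximal {F : Type*} [Field F] [Fintype F] (n q : ℕ) (hF : Fintype.card F = q ^ 2) (hn : n ≠ 3) (hq : 4 ≤ q) (D : Fin 2 → Submodule F (Fin n → F)) (hD : Cfsg.Geo.IsMDecomposition 2 D) (hts : ∀ i, Cfsg.Geo.IsTotallySingularFor (Cfsg.hermForm n F q) (D i)) : Cfsg.Geo.IsMaximalIn (Cfsg.GU n F q ⊓ Cfsg.Geo.specialLinear (Fin n) F) (Cfsg.Geo.decompositionStabilizer D ⊓ (Cfsg.GU n F q ⊓ Cfsg.Geo.specialLinear (Fin n) F)) := by
  have hd := hD.finrank_eq
  have htop : D 0 ⊔ D 1 = ⊤ :=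
    eq_top_iff.2 (hD.iSup_eq_top ▸ iSup_le (Fin.forall_fin_two.2 ⟨le_sup_left, le_sup_right⟩))
  have hinf : ∀ x ∈ D 0, x ∈ D 1 → x = 0 :=
    Submodule.disjoint_def.1 (hD.indep.pairwiseDisjoint (show (0 : Fin 2) ≠ 1 by decide))
  have hmap : ∀ (g : Matrix.GeneralLinearGroup (Fin n) F) (i j : Fin 2),
      (D i).map (Matrix.toLin' (g : Matrix (Fin n) (Fin n) F)) = D j ↔
        ∀ x ∈ D i, (g : Matrix (Fin n) (Fin n) F).mulVec x ∈ D j := by
    refine fun g i j => ⟨fun h x hx => h ▸ ⟨x, hx, Matrix.toLin'_apply _ x⟩, fun h => ?_⟩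
    refine Submodule.eq_of_le_of_finrank_le ?_ (by
      rw [(Submodule.equivMapOfInjective _ (fun a b hab => by
        have := congrArg (((g⁻¹ : Matrix.GeneralLinearGroup (Fin n) F) :
          Matrix (Fin n) (Fin n) F).mulVec) hab
        simpa [Matrix.toLin'_apply, Matrix.mulVec_mulVec] using this) _).finrank_eq.symm, hd, hd])
    rintro _ ⟨x, hx, rfl⟩
    rw [Matrix.toLin'_apply]
    exact h x hx
  refine halves_isMaximal hF (fun h => hn h.1) hq
    ⟨hts 0, hts 1, htop, hinf, by rw [hd, hd], by rw [hd]⟩ _ fun g => ?_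
  constructor
  · rintro ⟨⟨σ, hσ⟩, hg⟩
    refine ⟨hg, ?_⟩
    by_cases h : σ 0 = 0
    · have h1 : σ 1 = 1 := by
        have := σ.injective.ne (show (1 : Fin 2) ≠ 0 by decide)
        omega
      exact Or.inl ⟨(hmap g 0 0).1 ((hσ 0).trans (by rw [h])), (hmap g 1 1).1 ((hσ 1).trans (by rw [h1]))⟩
    · have h0 : σ 0 = 1 := by omega
      have h1 : σ 1 = 0 := by
        have := σ.injective.ne (show (1 : Fin 2) ≠ 0 by decide)
        omega
      exact Or.inr ⟨(hmap g 0 1).1 ((hσ 0).trans (by rw [h0])), (hmap g 1 0).1 ((hσ 1).trans (by rw [h1]))⟩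
  · rintro ⟨hg, ⟨h0, h1⟩ | ⟨h0, h1⟩⟩
    · exact ⟨⟨1, Fin.forall_fin_two.2 ⟨(hmap g 0 0).2 h0, (hmap g 1 1).2 h1⟩⟩, hg⟩
    · exact ⟨⟨Equiv.swap 0 1, Fin.forall_fin_two.2
        ⟨by rw [Equiv.swap_apply_left]; exact (hmap g 0 1).2 h0,
         by rw [Equiv.swap_apply_right]; exact (hmap g 1 0).2 h1⟩⟩, hg⟩

end CfsgLib.SUFour96.IsoPlanes
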