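import Mathlib
import Cfsg.Agent.Subfield54.SUMain

/-!
Subfield subgroups of odd prime index of `SU_n(q)` are maximal from `n = 4` on. For index three and an irrational
centre, some rational product fixing a totally singular plane shifts the centre along the radical vector, and the
commutator with the transvection moves a rational singular vector inside the plane.
-/

set_option autoImplicit false

namespace CfsgLib.Subfield54.SU

open Matrix CfsgLib.TransvGL CfsgLib.UnitCentres CfsgLib.Dickson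

variable {F : Type*} [Field F] [Fintype F] {F₀ : Subfield F} {σ : F ≃+* F}
variable {ι : Type} [Fintype ι] [DecidableEq ι] {f : (ι → F) → (ι → F) → F}
variable {M : Subgroup (GL ι F)} {δ : F} (D : RatData σ f F₀ M δ)

include D in
theorem iso_induction_four {e e' : ι → F} (he : Rat F₀ e) (he' : Rat F₀ e') (hn : 4 ≤ Fintype.card ι)
    (hπ : ∀ x, f (x - f x e' • e - f x e • e') e = 0 ∧ f (x - f x e' • e - f x e • e') e' = 0)
    (P : (ι → F) → Prop) (hadd : ∀ x y, P x → P y → P (x + y))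
    (hiso : ∀ x, Rat F₀ x → f x x = 0 → f x e = 0 → f x e' = 0 → P x) :
    ∀ x, Rat F₀ x → f x e = 0 → f x e' = 0 → P x := by
  have hf := D.herm
  obtain ⟨u₀, hu₀, hu₀0, hu₀u, hk⟩ := exists_iso_rat D (k := 2) (by omega) ![upair hf e, upair hf e']
    (by simp [Fin.forall_fin_two, ratD_upair D, he, he'])
  have hu₀e : f u₀ e = 0 := hk 0
  have hu₀e' : f u₀ e' = 0 := hk 1
  obtain ⟨x, hx, hxu⟩ := exists_rat_pair_ne D hu₀0
  have hmain : ∀ w, Rat F₀ w → f w e = 0 → f w e' = 0 → f w u₀ ≠ 0 → P w := by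
    intro w hw hwe hwe' hwu
    have hcF := D.rat _ _ hw hu₀
    have hw1 : f ((f w u₀)⁻¹ • w) u₀ = 1 := by rw [hf.smul_left, inv_mul_cancel₀ hwu]
    obtain ⟨t, ht, hti⟩ := exists_shift D hu₀ hu₀u (hw.smul (F₀.inv_mem hcF)) hw1
    set c := f w u₀
    have e1 : w = c • (c⁻¹ • w + t • u₀) + (-(c * t)) • u₀ := by
      rw [smul_add, smul_smul, smul_smul, mul_inv_cancel₀ hwu]; module
    rw [e1]
    refine hadd _ _ (hiso _ (((hw.smul (F₀.inv_mem hcF)).add (hu₀.smul ht)).smul hcF) ?_ ?_ ?_)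
      (hiso _ (hu₀.smul (F₀.neg_mem (F₀.mul_mem hcF ht))) ?_ ?_ ?_)
    · rw [hf.smul_left, smul_right hf, hti, mul_zero, mul_zero]
    · simp [hf.smul_left, hf.add_left, hwe, hu₀e]
    · simp [hf.smul_left, hf.add_left, hwe', hu₀e']
    · rw [hf.smul_left, smul_right hf, hu₀u, mul_zero, mul_zero]
    · simp [neg_left hf, hf.smul_left, hu₀e]
    · simp [neg_left hf, hf.smul_left, hu₀e']
  intro w hw hwe hwe'
  by_cases hwu : f w u₀ = 0
  swap
  · exact hmain w hw hwe hwe' hwu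
  obtain ⟨x', hx'⟩ : ∃ x', x' = x - f x e' • e - f x e • e' := ⟨_, rfl⟩
  have hx'r : Rat F₀ x' := hx' ▸ (hx.sub (he.smul (D.rat _ _ hx he'))).sub (he'.smul (D.rat _ _ hx he))
  have hx'e : f x' e = 0 := hx' ▸ (hπ x).1
  have hx'e' : f x' e' = 0 := hx' ▸ (hπ x).2
  have hx'u : f x' u₀ ≠ 0 := by
    rw [hx', sub_left hf, sub_left hf, hf.smul_left, hf.smul_left, orth_comm hf hu₀e, orth_comm hf hu₀e']
    simpa using hxu
  have h1 : P (w + x') := hmain _ (hw.add hx'r) (by rw [hf.add_left, hwe, hx'e, add_zero])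
    (by rw [hf.add_left, hwe', hx'e', add_zero]) (by rw [hf.add_left, hwu, zero_add]; exact hx'u)
  have h2 : P (-x') := hmain _ (fun i => F₀.neg_mem (hx'r i)) (by rw [neg_left hf, hx'e, neg_zero])
    (by rw [neg_left hf, hx'e', neg_zero]) (by rw [neg_left hf]; exact neg_ne_zero.2 hx'u)
  simpa using hadd _ _ h1 h2

include D in
theorem exists_iso_pair_ne_four (hn : 4 ≤ Fintype.card ι) {y : ι → F} (hy : y ≠ 0) :
    ∃ z : ι → F, Rat F₀ z ∧ f z z = 0 ∧ f z y ≠ 0 := by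
  have hf := D.herm
  by_contra hno
  push Not at hno
  obtain ⟨x, hx, hxy⟩ := exists_rat_pair_ne D hy
  refine hxy (iso_induction_four D (e := 0) (e' := 0) (fun _ => F₀.zero_mem) (fun _ => F₀.zero_mem) hn
    (fun x => ⟨zero_right hf _, zero_right hf _⟩) (fun x => f x y = 0)
    (fun a b ha hb => by rw [hf.add_left, ha, hb, add_zero]) (fun a ha haa _ _ => hno a ha haa)
    x hx (zero_right hf _) (zero_right hf _))

include D in
theorem centre_rat_four (hn : 4 ≤ Fintype.card ι) {a : ι → F} (hac : Centre D.herm M a) (ha : Rat F₀ a)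
    (ha0 : a ≠ 0) {v : ι → F} (hv : Rat F₀ v) (hvv : f v v = 0) : Centre D.herm M v := by
  have hf := D.herm
  by_cases hv0 : v = 0
  · have := hac.smul 0
    rwa [zero_smul, ← hv0] at this
  have hmove : ∀ u w, Rat F₀ u → Rat F₀ w → f w w = 0 → f u w ≠ 0 → Centre hf M u → Centre hf M w := by
    intro u w hu hw hww huw hc
    have hs : δ / f u w ∈ F₀ := F₀.div_mem D.delta_mem (D.rat _ _ hu hw)
    set u' := (δ / f u w) • u with hu'
    have hu'r : Rat F₀ u' := hu.smul hs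
    have hu'w : f u' w = δ := by rw [hu', hf.smul_left, div_mul_cancel₀ _ huw]
    have hu'u : f u' u' = 0 := by rw [hu', hf.smul_left, smul_right hf, hc.iso, mul_zero, mul_zero]
    have hwu' : f w u' = σ δ := by rw [hf.herm, hu'w]
    have hdiff : f (w - u') (w - u') = 0 := by
      rw [sub_left hf, sub_right hf, sub_right hf, hww, hu'u, hwu', hu'w]
      linear_combination -D.delta_tr
    obtain ⟨-, g, hg, hgx⟩ := tmem_rat D (hw.sub hu'r) hdiff (F₀.inv_mem D.delta_mem)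
      (by rw [map_inv₀, show σ δ = -δ by linear_combination D.delta_tr, inv_neg, add_neg_cancel])
    have hgu : (g : Matrix ι ι F) *ᵥ u' = w := by
      rw [hgx, sub_right hf, hu'u, hu'w, sub_zero, inv_mul_cancel₀ D.delta_ne, one_smul, add_sub_cancel]
    rw [← hgu]
    exact (hc.smul _).image hg (D.iso _ hg)
  obtain ⟨z₁, hz₁, hz₁z, hz₁a⟩ := exists_iso_pair_ne_four D hn ha0
  obtain ⟨z₂, hz₂, hz₂z, hz₂v⟩ := exists_iso_pair_ne_four D hn hv0
  obtain ⟨z, hz, hzz, hza, hzv⟩ : ∃ z : ι → F, Rat F₀ z ∧ f z z = 0 ∧ f z a ≠ 0 ∧ f z v ≠ 0 := by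
    by_cases h1 : f z₁ v = 0
    · by_cases h2 : f z₂ a = 0
      · obtain ⟨c, hc, hc0, hct⟩ : ∃ c ∈ F₀, c ≠ 0 ∧ σ c * f z₂ z₁ + c * f z₁ z₂ = 0 := by
          by_cases h12 : f z₁ z₂ = 0
          · exact ⟨1, F₀.one_mem, one_ne_zero, by rw [h12, orth_comm hf h12]; ring⟩
          · refine ⟨δ / f z₁ z₂, F₀.div_mem D.delta_mem (D.rat _ _ hz₁ hz₂),
              div_ne_zero D.delta_ne h12, ?_⟩
            rw [hf.herm z₂ z₁, ← map_mul, div_mul_cancel₀ _ h12]
            linear_combination D.delta_tr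
        refine ⟨z₂ + c • z₁, hz₂.add (hz₁.smul hc), ?_, ?_, ?_⟩
        · rw [norm_add_smul hf, hz₁z, hz₂z]; linear_combination hct
        · rw [hf.add_left, hf.smul_left, h2, zero_add]; exact mul_ne_zero hc0 hz₁a
        · rw [hf.add_left, hf.smul_left, h1, mul_zero, add_zero]; exact hz₂v
      · exact ⟨z₂, hz₂, hz₂z, h2, hz₂v⟩
    · exact ⟨z₁, hz₁, hz₁z, hz₁a, h1⟩
  exact hmove z v hz hv hvv hzv (hmove a z ha hz hzz (fun h => hza (orth_comm hf h)) hac)

include D in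
theorem exists_iso_moved_four (hn : 4 ≤ Fintype.card ι) {g : GL ι F}
    (hgH : g ∉ Cfsg.Geo.subfieldSubgroup F₀ 1) :
    ∃ v, Rat F₀ v ∧ f v v = 0 ∧ ¬ RatLine F₀ ((g : Matrix ι ι F) *ᵥ v) := by
  have hf := D.herm
  by_contra hno
  push Not at hno
  apply hgH
  obtain ⟨e, he, he0, hee, -⟩ := exists_iso_rat D (k := 0) (by omega) ![] (fun a => a.elim0)
  obtain ⟨s, e', he', hge⟩ := hno e he hee
  have hinj : ∀ v, (g : Matrix ι ι F) *ᵥ v = 0 → v = 0 := fun v h => by
    rw [← inv_mulVec_mulVec g v, h, mulVec_zero]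
  have hs0 : s ≠ 0 := fun h => he0 (hinj e (by rw [hge, h, zero_smul]))
  have he'0 : e' ≠ 0 := fun h => he0 (hinj e (by rw [hge, h, smul_zero]))
  set T : (ι → F) → Prop := fun x => ∃ w, Rat F₀ w ∧ (g : Matrix ι ι F) *ᵥ x = s • w with hT
  have hTadd : ∀ x y, T x → T y → T (x + y) := by
    rintro x y ⟨w, hw, hwe⟩ ⟨w', hw', hwe'⟩
    exact ⟨w + w', hw.add hw', by rw [mulVec_add, hwe, hwe', smul_add]⟩
  have hTsmul : ∀ c ∈ F₀, ∀ x, T x → T (c • x) := by
    rintro c hc x ⟨w, hw, hwe⟩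
    exact ⟨c • w, hw.smul hc, by rw [mulVec_smul, hwe, smul_comm]⟩
  have hTiso : ∀ y, Rat F₀ y → f y y = 0 → f y e ≠ 0 → T y := by
    intro y hy hyy hye
    obtain ⟨sy, y', hy', hgy⟩ := hno y hy hyy
    set c := δ / f y e with hc
    have hcF : c ∈ F₀ := F₀.div_mem D.delta_mem (D.rat _ _ hy he)
    have hc0 : c ≠ 0 := div_ne_zero D.delta_ne hye
    have hz : f (e + c • y) (e + c • y) = 0 := by
      rw [norm_add_smul hf, hee, hyy, hf.herm e y, ← map_mul, hc, div_mul_cancel₀ _ hye]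
      linear_combination D.delta_tr
    obtain ⟨t, z', hz', hgz⟩ := hno (e + c • y) (he.add (hy.smul hcF)) hz
    rw [mulVec_add, mulVec_smul, hge, hgy, smul_smul] at hgz
    have hli : ∀ k : F, y' ≠ k • e' := fun k hk => hye (by
      have : y = (sy * k / s) • e := by
        rw [← inv_mulVec_mulVec g y, ← inv_mulVec_mulVec g e, hgy, hge, hk, mulVec_smul, mulVec_smul,
          mulVec_smul, smul_smul, smul_smul]
        congr 1; field_simp
      rw [this, hf.smul_left, hee, mul_zero])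
    obtain ⟨φ, hφ, hφe, hφy⟩ : ∃ φ, RatD F₀ φ ∧ φ e' = 0 ∧ φ y' ≠ 0 := by
      by_contra h
      push Not at h
      obtain ⟨k, hk⟩ := mem_line_of_forall he' he'0 h
      exact hli k hk
    obtain ⟨ψ, hψ, hψy, hψe⟩ : ∃ ψ, RatD F₀ ψ ∧ ψ y' = 0 ∧ ψ e' ≠ 0 := by
      by_contra h
      push Not at h
      have hy'0 : y' ≠ 0 := fun h0 => hli 0 (by rw [h0, zero_smul])
      obtain ⟨k, hk⟩ := mem_line_of_forall hy' hy'0 h
      have hk0 : k ≠ 0 := fun h0 => he'0 (by rw [hk, h0, zero_smul])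
      exact hli k⁻¹ (by rw [hk, inv_smul_smul₀ hk0])
    have h1 := congrArg φ hgz
    have h2 := congrArg ψ hgz
    simp only [map_add, map_smul, smul_eq_mul, hφe, hψy, mul_zero, zero_add, add_zero] at h1 h2
    have hψz : ψ z' ≠ 0 := fun h => by
      rw [h, mul_zero, mul_eq_zero] at h2
      exact h2.elim hs0 hψe
    have hratio : sy = s * (ψ e' * φ z' / (c * φ y' * ψ z')) := by
      field_simp
      linear_combination ψ z' * h1 - φ z' * h2
    refine ⟨(ψ e' * φ z' / (c * φ y' * ψ z')) • y', hy'.smul ?_, by rw [hgy, smul_smul, ← hratio]⟩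
    exact F₀.div_mem (F₀.mul_mem (hψ.apply_mem he') (hφ.apply_mem hz'))
      (F₀.mul_mem (F₀.mul_mem hcF (hφ.apply_mem hy')) (hψ.apply_mem hz'))
  have hTe : T e := ⟨e', he', hge⟩
  have hne : ∀ x, Rat F₀ x → f x e ≠ 0 → T x := by
    intro x hx hxe
    have hcF := D.rat _ _ hx he
    have hx1 : f ((f x e)⁻¹ • x) e = 1 := by rw [hf.smul_left, inv_mul_cancel₀ hxe]
    obtain ⟨t, ht, hti⟩ := exists_shift D he hee (hx.smul (F₀.inv_mem hcF)) hx1
    set c := f x e
    have e1 : x = c • ((c⁻¹ • x + t • e) + (-t) • e) := by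
      rw [add_assoc, ← add_smul, add_neg_cancel, zero_smul, add_zero, smul_smul, mul_inv_cancel₀ hxe, one_smul]
    rw [e1]
    refine hTsmul c hcF _ (hTadd _ _ (hTiso _ ((hx.smul (F₀.inv_mem hcF)).add (he.smul ht)) hti ?_)
      (hTsmul _ (F₀.neg_mem ht) _ hTe))
    rw [hf.add_left, hx1, hf.smul_left, hee, mul_zero, add_zero]; exact one_ne_zero
  obtain ⟨x₁, hx₁, hx₁e⟩ := exists_rat_pair_ne D he0
  refine mem_subfield_of_ratLine fun x hx => ?_
  obtain ⟨w, hw, hwe⟩ : T x := by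
    by_cases hxe : f x e = 0
    · have h1 := hne (x + x₁) (hx.add hx₁) (by rw [hf.add_left, hxe, zero_add]; exact hx₁e)
      have h2 := hne (-x₁) (fun i => F₀.neg_mem (hx₁ i)) (by rw [neg_left hf]; exact neg_ne_zero.2 hx₁e)
      simpa using hTadd _ _ h1 h2
    · exact hne x hx hxe
  exact ⟨s, w, hw, hwe⟩

include D in
theorem centre_of_rat_four (hn : 4 ≤ Fintype.card ι)
    (hC : ∀ v, Rat F₀ v → f v v = 0 → Centre D.herm M v) {y : ι → F} (hyy : f y y = 0) :
    Centre D.herm M y := by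
  classical
  have hf := D.herm
  by_cases hy0 : y = 0
  · have := (hC 0 (fun _ => F₀.zero_mem) (zero_left hf _))
    rwa [hy0]
  obtain ⟨e, he, hee, hey⟩ := exists_iso_pair_ne_four D hn hy0
  have he0 : e ≠ 0 := fun h => hey (by rw [h, zero_left hf])
  obtain ⟨y₁, hy₁, hy₁e⟩ := exists_rat_pair_ne D he0
  obtain ⟨y₂, hy₂, hy₂e⟩ : ∃ y₂, Rat F₀ y₂ ∧ f y₂ e = 1 :=
    ⟨(f y₁ e)⁻¹ • y₁, hy₁.smul (F₀.inv_mem (D.rat _ _ hy₁ he)), by rw [hf.smul_left, inv_mul_cancel₀ hy₁e]⟩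
  obtain ⟨t₀, ht₀, he'e'⟩ := exists_shift D he hee hy₂ hy₂e
  obtain ⟨e', he'⟩ : ∃ e', e' = y₂ + t₀ • e := ⟨_, rfl⟩
  rw [← he'] at he'e'
  have he'r : Rat F₀ e' := he' ▸ hy₂.add (he.smul ht₀)
  have he'e : f e' e = 1 := by rw [he', hf.add_left, hf.smul_left, hee, hy₂e, mul_zero, add_zero]
  have hee' : f e e' = 1 := by rw [hf.herm, he'e, map_one]
  have hπ : ∀ x, f (x - f x e' • e - f x e • e') e = 0 ∧ f (x - f x e' • e - f x e • e') e' = 0 :=
    fun x => ⟨by simp [sub_left hf, hf.smul_left, hee, he'e], by simp [sub_left hf, hf.smul_left, hee', he'e']⟩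
  have hCe := hC e he hee
  -- the projections of root elements
  set L : (ι → F) → Prop := fun v => f v e = 0 ∧ ∃ z, YMem f M e v z ∧ z + σ z + f v v = 0 with hL
  have hadjust : ∀ v z, L v → z + σ z + f v v = 0 → YMem f M e v z := by
    rintro v z ⟨hve, z₁, hY, hz₁⟩ hz
    have hd : (z - z₁) + σ (z - z₁) = 0 := by rw [map_sub]; linear_combination hz - hz₁
    obtain ⟨-, g, hg, hgx⟩ := TMem.of_centre hCe hd
    have hT : YMem f M e 0 (z - z₁) :=
      ⟨zero_left hf e, g, hg, fun x => by rw [hgx]; simp [rootFun, zero_right hf]⟩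
    have := hT.mul hf hee hY
    rwa [zero_add, zero_right hf, sub_zero, sub_add_cancel] at this
  have hLadd : ∀ v v', L v → L v' → L (v + v') := by
    rintro v v' ⟨hv, z, hY, hz⟩ ⟨hv', z', hY', hz'⟩
    refine ⟨by rw [hf.add_left, hv, hv', add_zero], _, hY.mul hf hee hY', ?_⟩
    rw [map_sub, map_add, ← hf.herm v v', hf.add_left, add_right hf, add_right hf]
    linear_combination hz + hz'
  have hσδ : σ δ = -δ := by linear_combination D.delta_tr
  have hLiso : ∀ u, Rat F₀ u → f u u = 0 → f u e = 0 → f u e' = 0 → ∀ τ : F, L (τ • u) := by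
    intro u hu huu hue hue'
    by_cases hu0 : u = 0
    · intro τ
      rw [hu0, smul_zero]
      exact ⟨zero_left hf e, 0, ymem_rat D he hee (fun _ => F₀.zero_mem) (zero_left hf e) F₀.zero_mem
        (by simp [zero_left hf]), by simp [zero_left hf]⟩
    have hCu := hC u hu huu
    have key : ∀ c t : F, c + σ c = 0 → t ∈ F₀ → L ((c * t) • u) := by
      intro c t hc ht
      obtain ⟨x₁, hx₁, hx₁u⟩ := exists_rat_pair_ne D hu0
      obtain ⟨x, hxr, hxu⟩ : ∃ x, Rat F₀ x ∧ f x u = t :=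
        ⟨(t / f x₁ u) • x₁, hx₁.smul (F₀.div_mem ht (D.rat _ _ hx₁ hu)),
          by rw [hf.smul_left, div_mul_cancel₀ _ hx₁u]⟩
      obtain ⟨v, hv⟩ : ∃ v, v = x - f x e • e' := ⟨_, rfl⟩
      have hvr : Rat F₀ v := hv ▸ hxr.sub (he'r.smul (D.rat _ _ hxr he))
      have hve : f v e = 0 := by rw [hv, sub_left hf, hf.smul_left, he'e, mul_one, sub_self]
      have hvu : f v u = t := by rw [hv, sub_left hf, hf.smul_left, orth_comm hf hue', mul_zero, sub_zero, hxu]
      obtain ⟨z, hY⟩ := exists_root_rat D he hee hvr hve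
      obtain ⟨-, g, hg, hgx⟩ := TMem.of_centre hCu hc
      have hge : (g : Matrix ι ι F) *ᵥ e = e := by rw [hgx, orth_comm hf hue]; simp
      have h2 := (hY.conj hf hg (D.iso _ hg) hge).mul hf hee (hY.inv hf hee)
      have hgv : (g : Matrix ι ι F) *ᵥ v + -v = (c * t) • u := by rw [hgx, hvu]; abel
      rw [hgv] at h2
      refine ⟨by rw [hf.smul_left, hue, mul_zero], _, h2, ?_⟩
      have huv : f u v = σ t := by rw [hf.herm, hvu]
      rw [hgx, neg_left hf, add_right hf, smul_right hf, hvu, hf.smul_left, smul_right hf, huu]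
      simp only [map_add, map_sub, map_neg, map_mul, hf.involutive, norm_fixed hf]
      linear_combination (t * σ t) * hc
    intro τ
    obtain ⟨z₀, hz₀, hz₀ne⟩ := D.conj_ne
    set x := τ / δ with hx
    set B := (x - σ x) / (z₀ - σ z₀) with hB
    have hd : z₀ - σ z₀ ≠ 0 := sub_ne_zero.2 (Ne.symm hz₀ne)
    have hσB : σ B = B := by
      rw [hB, map_div₀, map_sub, map_sub, hf.involutive, hf.involutive, ← neg_sub x, ← neg_sub z₀, neg_div_neg_eq]
    have hσA : σ (x - B * z₀) = x - B * z₀ := by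
      rw [map_sub, map_mul, hσB]
      have : B * (z₀ - σ z₀) = x - σ x := div_mul_cancel₀ _ hd
      linear_combination this
    have e1 : τ = (δ * (x - B * z₀)) * 1 + (δ * B) * z₀ := by
      have hτ : δ * x = τ := by rw [hx, mul_div_cancel₀ _ D.delta_ne]
      linear_combination -hτ
    rw [e1, add_smul]
    exact hLadd _ _ (key _ _ (by rw [map_mul, hσA, hσδ]; ring) F₀.one_mem)
      (key _ _ (by rw [map_mul, hσB, hσδ]; ring) hz₀)
  have hLrat : ∀ u, Rat F₀ u → f u e = 0 → f u e' = 0 → ∀ τ : F, L (τ • u) :=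
    iso_induction_four D he he'r hn hπ (fun u => ∀ τ : F, L (τ • u))
      (fun a b ha hb τ => by rw [smul_add]; exact hLadd _ _ (ha τ) (hb τ)) hLiso
  have hLall : ∀ (v : ι → F), L (v - f v e' • e - f v e • e') := by
    intro v
    have key : ∀ S : Finset ι, L ((∑ i ∈ S, v i • Pi.single i (1 : F)) -
        f (∑ i ∈ S, v i • Pi.single i (1 : F)) e' • e - f (∑ i ∈ S, v i • Pi.single i (1 : F)) e • e') := by
      intro S
      induction S using Finset.induction_on with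
      | empty =>
        simp [zero_left hf]
        exact ⟨zero_left hf e, 0, ymem_rat D he hee (fun _ => F₀.zero_mem) (zero_left hf e) F₀.zero_mem
          (by simp [zero_left hf]), by simp [zero_left hf]⟩
      | @insert i S hi ih =>
        have h1 := hLrat (Pi.single i (1 : F) - f (Pi.single i (1 : F)) e' • e - f (Pi.single i (1 : F)) e • e')
          (((rat_single i).sub (he.smul (D.rat _ _ (rat_single i) he'r))).sub
            (he'r.smul (D.rat _ _ (rat_single i) he))) (hπ _).1 (hπ _).2 (v i)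
        have h2 := hLadd _ _ h1 ih
        convert h2 using 1
        rw [Finset.sum_insert hi, hf.add_left, hf.add_left, hf.smul_left, hf.smul_left]
        module
    have := key Finset.univ
    rwa [← pi_eq_sum_univ' v] at this
  -- moving `e'` to `y`
  have hye : f y e ≠ 0 := fun h => hey (orth_comm hf h)
  obtain ⟨y', hy'⟩ : ∃ y', y' = (f y e)⁻¹ • y := ⟨_, rfl⟩
  have hy'y' : f y' y' = 0 := by rw [hy', hf.smul_left, smul_right hf, hyy, mul_zero, mul_zero]
  have hy'e : f y' e = 1 := by rw [hy', hf.smul_left, inv_mul_cancel₀ hye]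
  obtain ⟨w, hw⟩ : ∃ w, w = y' - f y' e' • e - f y' e • e' := ⟨_, rfl⟩
  have hwe : f w e = 0 := hw ▸ (hπ y').1
  have hwe' : f w e' = 0 := hw ▸ (hπ y').2
  have hLw : L (-w) := by
    have h3 := hLall (-y')
    convert h3 using 1
    rw [hw, neg_left hf, neg_left hf]
    module
  have htr : f y' e' + σ (f y' e') + f (-w) (-w) = 0 := by
    have hy'eq : y' = w + f y' e' • e + e' := by rw [hw, hy'e]; module
    have h4 := hy'y'
    conv_lhs at h4 => rw [hy'eq]
    simp [hf.add_left, add_right hf, hf.smul_left, smul_right hf, hee, he'e, hee', he'e', hwe, hwe',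
      orth_comm hf hwe, orth_comm hf hwe'] at h4
    rw [neg_left hf, neg_right hf, neg_neg]
    linear_combination h4
  obtain ⟨-, g, hg, hgx⟩ := hadjust (-w) (f y' e') hLw htr
  have hgy : (g : Matrix ι ι F) *ᵥ e' = y' := by
    rw [hgx, rootFun, neg_right hf, orth_comm hf hwe', he'e, hw, hy'e]
    module
  have := ((hC e' he'r he'e').image hg (D.iso _ hg)).smul (f y e)
  rwa [hgy, hy', smul_smul, mul_inv_cancel₀ hye, one_smul] at this

include D in
/-- For index three some product of rational plane elements moves the centre along the radical. -/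
theorem exists_kernel_gen {r : ℕ} (hr3 : r = 3)
    (hcardE : Nat.card (fixF σ) = Nat.card (F₀.comap (fixF σ).subtype) ^ r) {a a' b R : ι → F} {ρ : F}
    (hρ : ρ ∉ F₀)
    (hgen : ∀ x y : F, x ∈ F₀ → y ∈ F₀ → ∀ c : F, c ∈ F₀ → σ c = c → ∃ g ∈ M, ∃ β : F,
      β = -(c * (σ x + σ y * σ ρ) * y) ∧
      (g : Matrix ι ι F) *ᵥ a = a ∧
      (g : Matrix ι ι F) *ᵥ b = (c * ((x + y * ρ) * σ (x + y * ρ))) • a + b + β • R ∧
      ∀ z, f z a = 0 → f z a' = 0 → f z b = 0 → (g : Matrix ι ι F) *ᵥ z = z)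
    (hRa : f R a = 0) (hRa' : f R a' = 0) (hRb : f R b = 0) :
    ∃ h ∈ M, ∃ β : F, (h : Matrix ι ι F) *ᵥ a = a ∧ (h : Matrix ι ι F) *ᵥ b = b + β • R ∧
      (h : Matrix ι ι F) *ᵥ R = R ∧ β ≠ 0 := by
  classical
  subst hr3
  have hf := D.herm
  obtain ⟨z, hzF, hzne⟩ := D.conj_ne
  set E₀ := F₀.comap (fixF σ).subtype
  have hN : ∀ x : F, x * σ x ∈ fixF σ := fun x => by rw [mem_fixF, map_mul, hf.involutive, mul_comm]
  let w : Fin 4 → fixF σ := ![1, ⟨_, hN ρ⟩, ⟨_, hN (1 + ρ)⟩, ⟨_, hN (z + ρ)⟩]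
  let L : (Fin 4 → E₀) → fixF σ := fun c => ∑ i, (c i : fixF σ) * w i
  obtain ⟨c₁, c₂, hne, heq⟩ : ∃ c₁ c₂ : Fin 4 → E₀, c₁ ≠ c₂ ∧ L c₁ = L c₂ := by
    by_contra hno
    push Not at hno
    have h1 := Nat.card_le_card_of_injective L fun x y h => by
      by_contra hxy
      exact hno x y hxy h
    rw [hcardE, Nat.card_fun, Nat.card_fin] at h1
    exact absurd h1 (not_le.2 (Nat.pow_lt_pow_right Finite.one_lt_card (by norm_num)))
  obtain ⟨d, hd⟩ : ∃ d, d = c₁ - c₂ := ⟨_, rfl⟩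
  have hd0 : d ≠ 0 := hd ▸ sub_ne_zero.2 hne
  have hLd : L d = 0 := by
    simp only [L, hd, Pi.sub_apply, Subfield.coe_sub, sub_mul, Finset.sum_sub_distrib]
    exact sub_eq_zero.2 heq
  let e : Fin 4 → F := fun i => ((d i : fixF σ) : F)
  have heF : ∀ i, e i ∈ F₀ := fun i => (d i).2
  have heσ : ∀ i, σ (e i) = e i := fun i => (d i : fixF σ).2
  obtain ⟨g₀, hg₀, β₀, hβ₀, ga₀, gb₀, gz₀⟩ := hgen 1 0 F₀.one_mem F₀.zero_mem _ (heF 0) (heσ 0)
  obtain ⟨g₁, hg₁, β₁, hβ₁, ga₁, gb₁, gz₁⟩ := hgen 0 1 F₀.zero_mem F₀.one_mem _ (heF 1) (heσ 1)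
  obtain ⟨g₂, hg₂, β₂, hβ₂, ga₂, gb₂, gz₂⟩ := hgen 1 1 F₀.one_mem F₀.one_mem _ (heF 2) (heσ 2)
  obtain ⟨g₃, hg₃, β₃, hβ₃, ga₃, gb₃, gz₃⟩ := hgen z 1 hzF F₀.one_mem _ (heF 3) (heσ 3)
  have hR0 := gz₀ R hRa hRa' hRb
  have hR1 := gz₁ R hRa hRa' hRb
  have hR2 := gz₂ R hRa hRa' hRb
  have hR3 := gz₃ R hRa hRa' hRb
  have hsum : e 0 + e 1 * (ρ * σ ρ) + e 2 * ((1 + ρ) * σ (1 + ρ)) + e 3 * ((z + ρ) * σ (z + ρ)) = 0 := by
    have h := congrArg Subtype.val hLd
    simpa [L, w, e, Fin.sum_univ_four] using h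
  refine ⟨g₀ * g₁ * g₂ * g₃, M.mul_mem (M.mul_mem (M.mul_mem hg₀ hg₁) hg₂) hg₃,
    β₀ + β₁ + β₂ + β₃, by simp only [Units.val_mul, ← mulVec_mulVec, ga₃, ga₂, ga₁, ga₀], ?_,
    by simp only [Units.val_mul, ← mulVec_mulVec, hR3, hR2, hR1, hR0], ?_⟩
  · simp only [Units.val_mul, ← mulVec_mulVec, gb₃, gb₂, gb₁, gb₀, mulVec_add, mulVec_smul, ga₂, ga₁, ga₀,
      hR2, hR1, hR0, map_one, zero_mul, add_zero, zero_add, one_mul, mul_one]
    linear_combination (norm := module) hsum • a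
  · intro hβ
    rw [hβ₀, hβ₁, hβ₂, hβ₃, map_zero, map_one] at hβ
    have hA : e 1 + e 2 + e 3 = 0 := by
      by_contra hA
      refine hρ ?_
      have h1 : σ ρ = -(e 2 + e 3 * σ z) / (e 1 + e 2 + e 3) := by
        rw [eq_div_iff hA]; linear_combination -hβ
      have h2 : σ ρ ∈ F₀ := by
        rw [h1]
        exact F₀.div_mem (F₀.neg_mem (F₀.add_mem (heF 2) (F₀.mul_mem (heF 3) (D.conj_mem _ hzF))))
          (F₀.add_mem (F₀.add_mem (heF 1) (heF 2)) (heF 3))
      simpa [hf.involutive] using D.conj_mem _ h2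
    have hB : e 2 + e 3 * σ z = 0 := by linear_combination -hβ - σ ρ * hA
    have hB' : e 2 + e 3 * z = 0 := by
      have h := congrArg σ hB
      rwa [map_add, map_mul, heσ, heσ, hf.involutive, map_zero] at h
    have e3 : e 3 = 0 := by
      have h : e 3 * (σ z - z) = 0 := by linear_combination hB - hB'
      exact (mul_eq_zero.1 h).resolve_right (sub_ne_zero.2 hzne)
    have e2 : e 2 = 0 := by rw [e3, zero_mul, add_zero] at hB; exact hB
    have e1 : e 1 = 0 := by rw [e3, e2, add_zero, add_zero] at hA; exact hA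
    have e0 : e 0 = 0 := by rw [e3, e2, e1] at hsum; simpa using hsum
    refine hd0 (funext fun i => Subtype.ext (Subtype.ext ?_))
    fin_cases i
    · exact e0
    · exact e1
    · exact e2
    · exact e3

include D in
/-- An irrational transvection gives an irrational long root element at a rational vector. -/
theorem long_root_exists_four {r : ℕ} (hr : r.Prime) (hcard : Fintype.card F = Nat.card F₀ ^ r) (h3 : 3 ≤ r)
    (hcardE : Nat.card (fixF σ) = Nat.card (F₀.comap (fixF σ).subtype) ^ r)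
    (hn : 4 ≤ Fintype.card ι) {b₀ : ι → F} {c₀ : F} (hc0 : c₀ ≠ 0) (hct : c₀ + σ c₀ = 0)
    (hbM : TMem f M b₀ c₀) (hbL : ¬ RatLine F₀ b₀) :
    ∃ a, Rat F₀ a ∧ a ≠ 0 ∧ f a a = 0 ∧
      ∃ ν, ν ∉ F₀ ∧ ν + σ ν = 0 ∧ ∀ x ∈ F₀, σ x = x → TMem f M a (x * ν) := by
  classical
  have hf := D.herm
  haveI := Fintype.ofFinite (fixF σ)
  have hcardE' : Fintype.card (fixF σ) = Nat.card (F₀.comap (fixF σ).subtype) ^ r := by
    rw [← Nat.card_eq_fintype_card]; exact hcardE
  by_contra hno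
  have horth : ∀ (a v : ι → F) (k : F), k ≠ 0 → k + σ k = 0 → TMem f M v k → Rat F₀ a → a ≠ 0 →
      f a a = 0 → f a v = 0 → RatLine F₀ v := fun a v k hk hkt hv ha ha0 haa hav => by
    by_contra hL
    exact hno ⟨a, ha, ha0, haa, long_root_of_orth D hk hkt hv hL ha ha0 haa hav⟩
  have hinj : ∀ w, Rat F₀ w → f w w = 0 → f w b₀ = 0 → w = 0 := fun w hw hww hwb => by
    by_contra h0
    exact hbL (horth w b₀ c₀ hc0 hct hbM hw h0 hww hwb)
  -- the vectors
  obtain ⟨a, ha, ha0, haa, -⟩ := exists_iso_rat D (k := 0) (by omega) ![] (fun a => a.elim0)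
  obtain ⟨y₁, hy₁, hy₁a⟩ := exists_rat_pair_ne D ha0
  obtain ⟨y, hy, hya⟩ : ∃ y, Rat F₀ y ∧ f y a = 1 :=
    ⟨(f y₁ a)⁻¹ • y₁, hy₁.smul (F₀.inv_mem (D.rat _ _ hy₁ ha)), by rw [hf.smul_left, inv_mul_cancel₀ hy₁a]⟩
  obtain ⟨t₀, ht₀, hee⟩ := exists_shift D ha haa hy hya
  obtain ⟨e, he⟩ : ∃ e, e = y + t₀ • a := ⟨_, rfl⟩
  rw [← he] at hee
  have her : Rat F₀ e := he ▸ hy.add (ha.smul ht₀)
  have hea : f e a = 1 := by rw [he, hf.add_left, hf.smul_left, haa, hya, mul_zero, add_zero]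
  have hae : f a e = 1 := by rw [hf.herm, hea, map_one]
  obtain ⟨a', ha', ha'0, ha'a', hk'⟩ := exists_iso_rat D (k := 2) (by omega) ![upair hf a, upair hf e]
    (by simp [Fin.forall_fin_two, ratD_upair D, ha, her])
  have ha'a : f a' a = 0 := hk' 0
  have haa' : f a a' = 0 := orth_comm hf ha'a
  have ha'e : f a' e = 0 := hk' 1
  have hea' : f e a' = 0 := orth_comm hf ha'e
  have hli : ∀ s : F, a' ≠ s • a := fun s hs => ha'0 (by
    have : f a' e = s := by rw [hs, hf.smul_left, hae, mul_one]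
    rw [hs, this.symm.trans ha'e, zero_smul])
  obtain ⟨y₂, hy₂, hy₂a, hy₂a'⟩ := exists_rat_perp_sep D ha ha0 (a := a') hli
  obtain ⟨y', hy', hy'a, hy'a'⟩ : ∃ y', Rat F₀ y' ∧ f y' a = 0 ∧ f y' a' = 1 :=
    ⟨(f y₂ a')⁻¹ • y₂, hy₂.smul (F₀.inv_mem (D.rat _ _ hy₂ ha')), by rw [hf.smul_left, hy₂a, mul_zero],
      by rw [hf.smul_left, inv_mul_cancel₀ hy₂a']⟩
  obtain ⟨t₁, ht₁, he'e'⟩ := exists_shift D ha' ha'a' hy' hy'a'
  obtain ⟨e', he'⟩ : ∃ e', e' = y' + t₁ • a' := ⟨_, rfl⟩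
  rw [← he'] at he'e'
  have he'r : Rat F₀ e' := he' ▸ hy'.add (ha'.smul ht₁)
  have he'a : f e' a = 0 := by rw [he', hf.add_left, hf.smul_left, hy'a, ha'a, mul_zero, add_zero]
  have he'a' : f e' a' = 1 := by
    rw [he', hf.add_left, hf.smul_left, hy'a', ha'a', mul_zero, add_zero]
  have hae' : f a e' = 0 := orth_comm hf he'a
  have ha'e' : f a' e' = 1 := by rw [hf.herm, he'a', map_one]
  set p := f a b₀ with hp_def
  have hp : p ≠ 0 := fun h => ha0 (hinj a ha haa h)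
  obtain ⟨ρ, hρp⟩ : ∃ ρ, ρ * p = f a' b₀ := ⟨f a' b₀ / p, div_mul_cancel₀ _ hp⟩
  have hρ : ρ ∉ F₀ := fun h => hli ρ (sub_eq_zero.mp (hinj _ (ha'.sub (ha.smul h))
    (by simp [sub_left hf, sub_right hf, hf.smul_left, smul_right hf, haa, haa', ha'a, ha'a'])
    (by rw [sub_left hf, hf.smul_left, ← hp_def, hρp, sub_self])))
  have hquad : ∀ {u v : F}, u ∈ F₀ → v ∈ F₀ → ρ ^ 2 ≠ u + v * ρ :=
    Sp.not_quadratic hr hcard h3 hρ
  -- rescale the centre
  have hδ0 := D.delta_ne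
  have hσδ : σ δ = -δ := by linear_combination D.delta_tr
  have hσp : σ p ≠ 0 := fun h => hp (by simpa using h)
  obtain ⟨b, hb⟩ : ∃ b, b = (δ * σ p)⁻¹ • b₀ := ⟨_, rfl⟩
  have hab : f a b = -δ⁻¹ := by
    rw [hb, smul_right hf, ← hp_def, map_inv₀, map_mul, hf.involutive, hσδ]; field_simp
  have ha'b : f a' b = -(ρ * δ⁻¹) := by
    rw [hb, smul_right hf, ← hρp, map_inv₀, map_mul, hf.involutive, hσδ]; field_simp
  have hba : f b a = δ⁻¹ := by rw [hf.herm, hab, map_neg, map_inv₀, hσδ]; field_simp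
  have hba' : f b a' = σ ρ * δ⁻¹ := by rw [hf.herm, ha'b, map_neg, map_mul, map_inv₀, hσδ]; field_simp
  have hbb0 := hbM.1
  have hbb : f b b = 0 := by rw [hb, hf.smul_left, smul_right hf, hbb0, mul_zero, mul_zero]
  set s₀ := (δ * σ p)⁻¹ with hs₀
  have hs₀0 : s₀ * σ s₀ ≠ 0 := by
    have : s₀ ≠ 0 := inv_ne_zero (mul_ne_zero hδ0 hσp)
    exact mul_ne_zero this (fun h => this (by simpa using h))
  obtain ⟨k, hk⟩ : ∃ k, k = c₀ / (s₀ * σ s₀) := ⟨_, rfl⟩
  have hbk : TMem f M b k := by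
    rw [hb]
    exact TMem.smul hf s₀ (by rwa [hk, div_mul_cancel₀ _ hs₀0])
  have hk0 : k ≠ 0 := hk ▸ div_ne_zero hc0 hs₀0
  have hkt : k + σ k = 0 := by
    rw [hk, map_div₀, map_mul, hf.involutive, mul_comm (σ s₀) s₀, ← add_div, hct, zero_div]
  obtain ⟨R, hR⟩ : ∃ R, R = ρ • a - a' := ⟨_, rfl⟩
  have hRb : f R b = 0 := by rw [hR, sub_left hf, hf.smul_left, hab, ha'b]; ring
  have hRa : f R a = 0 := by rw [hR, sub_left hf, hf.smul_left, haa, ha'a]; ring
  have hRa' : f R a' = 0 := by rw [hR, sub_left hf, hf.smul_left, haa', ha'a']; ring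
  have hRR : f R R = 0 := by
    conv_lhs => arg 2; rw [hR]
    rw [sub_right hf, smul_right hf, hRa, hRa', mul_zero, sub_zero]
  -- generators
  have hgen : ∀ x y : F, x ∈ F₀ → y ∈ F₀ → ∀ c : F, c ∈ F₀ → σ c = c → ∃ g ∈ M, ∃ β : F,
      β = -(c * (σ x + σ y * σ ρ) * y) ∧
      (g : Matrix ι ι F) *ᵥ a = a ∧
      (g : Matrix ι ι F) *ᵥ b = (c * ((x + y * ρ) * σ (x + y * ρ))) • a + b + β • R ∧
      ∀ z, f z a = 0 → f z a' = 0 → f z b = 0 → (g : Matrix ι ι F) *ᵥ z = z := by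
    intro x y hx hy c hc hσc
    obtain ⟨hvv, g, hg, hgx⟩ := tmem_rat D (c := c * δ) ((ha.smul hx).add (ha'.smul hy))
      (by simp [hf.add_left, add_right hf, hf.smul_left, smul_right hf, haa, haa', ha'a, ha'a'])
      (F₀.mul_mem hc D.delta_mem) (by rw [map_mul, hσc, hσδ]; ring)
    refine ⟨g, hg, -(c * (σ x + σ y * σ ρ) * y), rfl, ?_, ?_, fun z h1 h2 _ => ?_⟩
    · rw [hgx]; simp [add_right hf, smul_right hf, haa, haa']
    · rw [hgx, add_right hf, smul_right hf, smul_right hf, hba, hba', hR, map_add, map_mul]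
      match_scalars <;> field_simp <;> ring
    · rw [hgx]; simp [add_right hf, smul_right hf, h1, h2]
  have hwmem : -(k / δ) ∈ fixF σ := by
    rw [mem_fixF, map_neg, map_div₀, hσδ, show σ k = -k by linear_combination hkt, neg_div_neg_eq]
  have hN : ∀ x : F, x * σ x ∈ fixF σ := fun x => by rw [mem_fixF, map_mul, hf.involutive, mul_comm]
  have hlow : ∃ g ∈ M, (g : Matrix ι ι F) *ᵥ a = a + (((⟨_, hwmem⟩ : fixF σ)) : F) • b ∧
      (g : Matrix ι ι F) *ᵥ b = b ∧
      ∀ z, f z a = 0 → f z a' = 0 → f z b = 0 → (g : Matrix ι ι F) *ᵥ z = z := by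
    obtain ⟨-, g, hg, hgx⟩ := hbk
    refine ⟨g, hg, ?_, by rw [hgx, hbb]; simp, fun z _ _ h3 => by rw [hgx, h3]; simp⟩
    rw [hgx, hab, mul_neg, ← div_eq_mul_inv]
  have haR : f a R = 0 := orth_comm hf hRa
  have hkey : ∀ h ∈ M, ∀ α : F, (h : Matrix ι ι F) *ᵥ a = a + α • R →
      (h : Matrix ι ι F) *ᵥ R = R → α = 0 := by
    intro h hhM α hha hhR
    have hha' : (h : Matrix ι ι F) *ᵥ a' = a' + (ρ * α) • R := by
      rw [show a' = ρ • a - R by rw [hR]; abel, mulVec_sub, mulVec_smul, hha, hhR]; module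
    have hcentre : ∀ v w, Rat F₀ v → f v v = 0 → Rat F₀ w → w ≠ 0 → f w w = 0 →
        f w ((h : Matrix ι ι F) *ᵥ v) = 0 → RatLine F₀ ((h : Matrix ι ι F) *ᵥ v) :=
      fun v w hv hvv hw hw0 hww hwv => horth w _ δ hδ0 D.delta_tr
        ((tmem_rat D hv hvv D.delta_mem D.delta_tr).conj hhM (D.iso h hhM)) hw hw0 hww hwv
    by_contra hα
    have e1 := ratLine_pair_ratio D (hcentre a a ha haa ha ha0 haa
      (by rw [hha]; simp [add_right hf, smul_right hf, haa, haR])) her he'r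
    have e2 := ratLine_pair_ratio D (hcentre a' a ha' ha'a' ha ha0 haa
      (by rw [hha']; simp [add_right hf, smul_right hf, haa', haR])) he'r her
    have e3 := ratLine_pair_ratio D (hcentre (a + a') a (ha.add ha')
      (by simp [hf.add_left, add_right hf, haa, haa', ha'a, ha'a']) ha ha0 haa
      (by rw [mulVec_add, hha, hha']; simp [add_right hf, smul_right hf, haa, haa', haR])) her he'r
    have hRe : f R e = ρ := by rw [hR, sub_left hf, hf.smul_left, hae, ha'e]; ring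
    have hRe' : f R e' = -1 := by rw [hR, sub_left hf, hf.smul_left, hae', ha'e']; ring
    rw [hha] at e1
    rw [hha'] at e2
    rw [mulVec_add, hha, hha'] at e3
    simp only [hf.add_left, hf.smul_left, hae, hae', ha'e, ha'e', hRe, hRe'] at e1 e2 e3
    set c := (1 + α * ρ) / (0 + α * -1) with hc_def
    set c' := (1 + ρ * α * -1) / (0 + ρ * α * ρ) with hc'_def
    have hρ0 : ρ ≠ 0 := fun h => hρ (h ▸ F₀.zero_mem)
    have k1 : 1 / α + ρ = -c := by
      rw [hc_def, zero_add, mul_neg_one, div_neg, neg_neg, add_div, mul_div_cancel_left₀ _ hα]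
    have k2 : 1 / α - ρ = c' * ρ ^ 2 := by rw [hc'_def]; field_simp; ring
    have h2mem : (2 : F) ∈ F₀ := by simpa [one_add_one_eq_two] using F₀.add_mem F₀.one_mem F₀.one_mem
    by_cases hc' : c' = 0
    · rw [hc'] at k2
      by_cases h2 : (2 : F) = 0
      · have hap : α * ρ = 1 := by
          have : 1 / α = ρ := by linear_combination k2
          rw [← this, mul_one_div, div_self hα]
        refine hquad (u := -((1 + α * ρ + (0 + ρ * α * ρ)) / (0 + α * -1 + (1 + ρ * α * -1)))) (v := 0)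
          (F₀.neg_mem e3) F₀.zero_mem ?_
        have hn2 : 1 + α * ρ + (0 + ρ * α * ρ) = ρ := by linear_combination (1 + ρ) * hap + h2
        have hd2 : 0 + α * -1 + (1 + ρ * α * -1) = -α := by linear_combination -hap
        rw [hn2, hd2]
        field_simp
        linear_combination hap
      · apply hρ
        have : ρ = -c / 2 := by field_simp; linear_combination k1 - k2
        rw [this]
        exact F₀.div_mem (F₀.neg_mem e1) h2mem
    · exact hquad (u := -c / c') (v := -2 / c') (F₀.div_mem (F₀.neg_mem e1) e2)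
        (F₀.div_mem (F₀.neg_mem h2mem) e2)
        (by field_simp; linear_combination k1 - k2)
  have hr5 : 5 ≤ r := by
    by_contra hlt
    have hr3 : r = 3 := by
      rcases Nat.lt_or_ge r 4 with h | h
      · omega
      · exact absurd (show r = 4 by omega) (fun e => by rw [e] at hr; norm_num at hr)
    obtain ⟨h, hhM, β, hha, hhb, hhR, hβ⟩ := exists_kernel_gen D hr3 hcardE hρ hgen hRa hRa' hRb
    obtain ⟨-, t, htM, htx⟩ := hbk
    have hta : ∀ v, (t : Matrix ι ι F) *ᵥ v = v + (k * f v b) • b := htx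
    have htR : (t : Matrix ι ι F) *ᵥ R = R := by rw [hta, hRb]; simp
    have htb : (t : Matrix ι ι F) *ᵥ b = b := by rw [hta, hbb]; simp
    have hinvh : ((h⁻¹ : GL ι F) : Matrix ι ι F) *ᵥ a = a ∧ ((h⁻¹ : GL ι F) : Matrix ι ι F) *ᵥ R = R ∧
        ((h⁻¹ : GL ι F) : Matrix ι ι F) *ᵥ b = b - β • R := by
      have h1 : ((h⁻¹ : GL ι F) : Matrix ι ι F) *ᵥ a = a := by
        conv_lhs => rw [← hha, inv_mulVec_mulVec]
      have h2 : ((h⁻¹ : GL ι F) : Matrix ι ι F) *ᵥ R = R := by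
        conv_lhs => rw [← hhR, inv_mulVec_mulVec]
      refine ⟨h1, h2, ?_⟩
      have h3 := inv_mulVec_mulVec h b
      rw [hhb, mulVec_add, mulVec_smul, h2] at h3
      linear_combination (norm := module) h3
    have hinvt : ((t⁻¹ : GL ι F) : Matrix ι ι F) *ᵥ R = R ∧
        ((t⁻¹ : GL ι F) : Matrix ι ι F) *ᵥ a = a - (k * f a b) • b := by
      have h1 : ((t⁻¹ : GL ι F) : Matrix ι ι F) *ᵥ R = R := by
        conv_lhs => rw [← htR, inv_mulVec_mulVec]
      have h2 : ((t⁻¹ : GL ι F) : Matrix ι ι F) *ᵥ b = b := by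
        conv_lhs => rw [← htb, inv_mulVec_mulVec]
      refine ⟨h1, ?_⟩
      have h3 := inv_mulVec_mulVec t a
      rw [hta, mulVec_add, mulVec_smul, h2] at h3
      linear_combination (norm := module) h3
    have h0 := hkey (h * t * h⁻¹ * t⁻¹)
      (M.mul_mem (M.mul_mem (M.mul_mem hhM htM) (M.inv_mem hhM)) (M.inv_mem htM)) (k * f a b * β) ?_ ?_
    · exact mul_ne_zero (mul_ne_zero hk0 (by rw [hab]; exact neg_ne_zero.2 (inv_ne_zero hδ0))) hβ h0
    · simp only [Units.val_mul, ← mulVec_mulVec, hinvt.2, mulVec_sub, mulVec_smul, hinvh.1, hinvh.2.2,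
        htb, htR, hta a, mulVec_add, hha, hhb, hhR]
      module
    · simp only [Units.val_mul, ← mulVec_mulVec, hinvt.1, hinvh.2.1, htR, hhR]
  -- the second generator
  obtain ⟨x₂, y₂', hx₂, hy₂', hu₂⟩ : ∃ x y : F, x ∈ F₀ ∧ y ∈ F₀ ∧
      (x + y * ρ) * σ (x + y * ρ) ∉ F₀ := by
    by_cases h1 : ρ * σ ρ ∈ F₀
    · by_cases h2 : (1 + ρ) * σ (1 + ρ) ∈ F₀
      · exfalso
        refine hquad (u := -(ρ * σ ρ)) (v := (1 + ρ) * σ (1 + ρ) - 1 - ρ * σ ρ) (F₀.neg_mem h1)
          (F₀.sub_mem (F₀.sub_mem h2 F₀.one_mem) h1) ?_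
        rw [map_add, map_one]; ring
      · exact ⟨1, 1, F₀.one_mem, F₀.one_mem, by rwa [one_mul]⟩
    · exact ⟨0, 1, F₀.zero_mem, F₀.one_mem, by rwa [zero_add, one_mul]⟩
  -- the values on rational plane elements: a space of dimension four over the fixed subfield
  obtain ⟨μ, hμF, hμ⟩ : ∃ μ ∈ F₀, μ + σ μ = 1 := by
    obtain ⟨z, hz, hzne⟩ := D.conj_ne
    have hd : z - σ z ≠ 0 := sub_ne_zero.2 (Ne.symm hzne)
    refine ⟨z / (z - σ z), F₀.div_mem hz (F₀.sub_mem hz (D.conj_mem _ hz)), ?_⟩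
    rw [map_div₀, map_sub, hf.involutive, ← neg_sub z (σ z), div_neg, ← sub_eq_add_neg, ← sub_div,
      div_self hd]
  obtain ⟨x₀, hx₀⟩ := Sp.exists_not_mem_image (F := fixF σ) (F₀ := F₀.comap (fixF σ).subtype)
    hcardE' (k := 4) (by omega) (by
      let z := Classical.choose D.conj_ne
      exact fun c => Function.invFun (fun e : fixF σ => (e : F))
        (((c 0 : fixF σ) : F) + (((c 1 : fixF σ) : F) + (c 2 : fixF σ) * z) * ρ
          + σ ((((c 1 : fixF σ) : F) + (c 2 : fixF σ) * z) * ρ)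
          + ((c 3 : fixF σ) : F) * (ρ * σ ρ)))
  obtain ⟨h, hhM, α, β, hha, hhb, hhz⟩ := plane D hr hcardE (a := a) (a' := a') (b := b) (R := R)
    haa (by rw [hab]; exact neg_ne_zero.2 (inv_ne_zero hδ0)) hRa hRa' hRb hRR
    (u₁ := 1) (u₂ := ⟨_, hN (x₂ + y₂' * ρ)⟩) one_ne_zero
    (by
      rw [div_one, Subfield.mem_comap]
      exact hu₂)
    (fun u hu c hc => by
      rcases hu with rfl | rfl
      · obtain ⟨g, hg, β, -, h1, h2, h3⟩ := hgen 1 0 F₀.one_mem F₀.zero_mem c hc c.2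
        exact ⟨g, hg, β, h1, by simpa using h2, h3⟩
      · obtain ⟨g, hg, β, -, h1, h2, h3⟩ := hgen x₂ y₂' hx₂ hy₂' c hc c.2
        exact ⟨g, hg, β, h1, by simpa using h2, h3⟩)
    (w := ⟨_, hwmem⟩) (fun h0 => by
      have := congrArg Subtype.val h0
      simp [hk0, hδ0] at this) hlow x₀
  have hha' : (h : Matrix ι ι F) *ᵥ a' = a' + (ρ * α) • R := by
    rw [show a' = ρ • a - R by rw [hR]; abel, mulVec_sub, mulVec_smul, hha, hhz R hRa hRa' hRb]; module
  have hpres : Iso f h := D.iso h hhM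
  have hcentre : ∀ v w, Rat F₀ v → f v v = 0 → Rat F₀ w → w ≠ 0 → f w w = 0 →
      f w ((h : Matrix ι ι F) *ᵥ v) = 0 → RatLine F₀ ((h : Matrix ι ι F) *ᵥ v) :=
    fun v w hv hvv hw hw0 hww hwv => horth w _ δ hδ0 D.delta_tr
      ((tmem_rat D hv hvv D.delta_mem D.delta_tr).conj hhM hpres) hw hw0 hww hwv
  have hα : α = 0 := hkey h hhM α hha (hhz R hRa hRa' hRb)
  subst hα
  simp only [zero_smul, add_zero, mul_zero] at hha hha'
  have hperp : ∀ z, f z a = 0 → f z a' = 0 → (h : Matrix ι ι F) *ᵥ z = z := by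
    intro z h1 h2
    have := hhz (z - (f z b / f a b) • a) (by rw [sub_left hf, hf.smul_left, h1, haa]; ring)
      (by rw [sub_left hf, hf.smul_left, h2, haa']; ring)
      (by rw [sub_left hf, hf.smul_left, div_mul_cancel₀ _ (by rw [hab]; exact neg_ne_zero.2 (inv_ne_zero hδ0)),
        sub_self])
    rwa [mulVec_sub, mulVec_smul, hha, sub_left_inj] at this
  have hline : ∀ v w, Rat F₀ v → f v v = 0 → Rat F₀ w → w ≠ 0 → f w w = 0 →
      (h : Matrix ι ι F) *ᵥ w = w → f w v = 0 →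
      ∀ y, Rat F₀ y → (h : Matrix ι ι F) *ᵥ y = y → f y v ≠ 0 →
        Rat F₀ ((h : Matrix ι ι F) *ᵥ v) := by
    intro v w hv hvv hw hw0 hww hhw hwv y hy hhy hyv
    obtain ⟨t, u, hu, htu⟩ := hcentre v w hv hvv hw hw0 hww (by rw [← hhw, hpres, hwv])
    have h1 : σ t * f y u = f y v := by
      rw [← smul_right hf, ← htu]
      conv_lhs => rw [← hhy]
      rw [hpres]
    have hyu : f y u ≠ 0 := fun h0 => hyv (by rw [← h1, h0, mul_zero])
    rw [htu]
    refine hu.smul ?_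
    have hσt : σ t ∈ F₀ := by
      rw [eq_div_iff hyu |>.mpr h1]
      exact F₀.div_mem (D.rat _ _ hy hv) (D.rat _ _ hy hu)
    simpa [hf.involutive] using D.conj_mem _ hσt
  have hher := hline e a' her hee ha' ha'0 ha'a' hha' ha'e a ha hha (by rw [hae]; exact one_ne_zero)
  have hhe'r := hline e' a he'r he'e' ha ha0 haa hha hae' a' ha' hha' (by rw [ha'e']; exact one_ne_zero)
  have hdisp : ∀ v, (h : Matrix ι ι F) *ᵥ v - v =
      f ((h : Matrix ι ι F) *ᵥ v - v) e • a + f ((h : Matrix ι ι F) *ᵥ v - v) e' • a' := by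
    intro v
    set d := (h : Matrix ι ι F) *ᵥ v - v with hd
    refine pair_inj hf fun x => ?_
    have hx0 := hperp (x - f x a • e - f x a' • e')
      (by simp [sub_left hf, hf.smul_left, hea, he'a])
      (by simp [sub_left hf, hf.smul_left, hea', he'a'])
    have h0 : f (x - f x a • e - f x a' • e') d = 0 := by
      rw [hd, sub_right hf, sub_eq_zero]
      conv_lhs => rw [← hx0]
      rw [hpres]
    rw [sub_left hf, sub_left hf, hf.smul_left, hf.smul_left] at h0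
    rw [add_right hf, smul_right hf, smul_right hf, ← hf.herm e d, ← hf.herm e' d]
    linear_combination h0
  obtain ⟨de, hde⟩ : ∃ d, d = (h : Matrix ι ι F) *ᵥ e - e := ⟨_, rfl⟩
  obtain ⟨de', hde'⟩ : ∃ d, d = (h : Matrix ι ι F) *ᵥ e' - e' := ⟨_, rfl⟩
  have hb' : (h : Matrix ι ι F) *ᵥ b - b = f b a • de + f b a' • de' := by
    have := hperp (b - f b a • e - f b a' • e')
      (by simp [sub_left hf, hf.smul_left, hea, he'a])
      (by simp [sub_left hf, hf.smul_left, hea', he'a'])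
    rw [mulVec_sub, mulVec_sub, mulVec_smul, mulVec_smul] at this
    rw [hde, hde']
    linear_combination (norm := module) this
  have hd1 := hdisp e
  have hd2 := hdisp e'
  rw [← hde] at hd1
  rw [← hde'] at hd2
  have hder : Rat F₀ de := hde ▸ hher.sub her
  have hde'r : Rat F₀ de' := hde' ▸ hhe'r.sub he'r
  set l₁ := f de e
  set l₂ := f de e'
  set m₁ := f de' e
  set m₂ := f de' e'
  have hl := congrArg (f · b) hb'
  rw [hd1, hd2, hhb] at hl
  simp [sub_left hf, hf.add_left, hf.smul_left, hRb, hab, ha'b, hba, hba'] at hl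
  -- coordinates over the fixed field
  set z₀ := Classical.choose D.conj_ne with hz₀
  obtain ⟨hz₀F, hz₀ne⟩ := Classical.choose_spec D.conj_ne
  have hcoord₀ : ∀ t ∈ F₀, ∃ c d : F₀.comap (fixF σ).subtype,
      t = ((c : fixF σ) : F) + ((d : fixF σ) : F) * z₀ := by
    intro t ht
    have hd : z₀ - σ z₀ ≠ 0 := sub_ne_zero.2 (Ne.symm hz₀ne)
    have h1 : σ ((t - σ t) / (z₀ - σ z₀)) = (t - σ t) / (z₀ - σ z₀) := by
      rw [map_div₀, map_sub, map_sub, hf.involutive, hf.involutive, ← neg_sub t, ← neg_sub z₀, neg_div_neg_eq]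
    have h1F : (t - σ t) / (z₀ - σ z₀) ∈ F₀ :=
      F₀.div_mem (F₀.sub_mem ht (D.conj_mem _ ht)) (F₀.sub_mem hz₀F (D.conj_mem _ hz₀F))
    have h2 : σ (t - (t - σ t) / (z₀ - σ z₀) * z₀) = t - (t - σ t) / (z₀ - σ z₀) * z₀ := by
      rw [map_sub, map_mul, h1]
      field_simp
      ring
    exact ⟨⟨⟨_, h2⟩, F₀.sub_mem ht (F₀.mul_mem h1F hz₀F)⟩, ⟨⟨_, h1⟩, h1F⟩, by simp⟩
  have hxeq : (l₁ + l₂ * ρ + m₁ * σ ρ + m₂ * (ρ * σ ρ)) / δ = (x₀ : F) := by
    field_simp at hl ⊢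
    linear_combination hl
  have hfixmem : ∀ t ∈ F₀, ∃ c : F₀.comap (fixF σ).subtype, t + σ t = ((c : fixF σ) : F) := fun t ht =>
    ⟨⟨⟨t + σ t, by rw [mem_fixF, map_add, hf.involutive, add_comm]⟩, F₀.add_mem ht (D.conj_mem _ ht)⟩, rfl⟩
  have hμd : μ / δ ∈ F₀ := F₀.div_mem hμF D.delta_mem
  obtain ⟨ca, hca⟩ := hfixmem _ (F₀.mul_mem hμd (D.rat _ _ hder her))
  obtain ⟨cb, hcb⟩ := hfixmem _ (F₀.mul_mem hμd (D.rat _ _ hde'r he'r))
  obtain ⟨c1, c2, hc12⟩ := hcoord₀ _ (F₀.add_mem (F₀.mul_mem hμd (D.rat _ _ hder he'r))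
    (D.conj_mem _ (F₀.mul_mem hμd (D.rat _ _ hde'r her))))
  refine hx₀ ![ca, c1, c2, cb] ?_
  show Function.invFun (fun e : fixF σ => (e : F)) _ = x₀
  rw [← Function.leftInverse_invFun (f := fun e : fixF σ => (e : F)) Subtype.val_injective x₀]
  congr 1
  show ((ca : fixF σ) : F) + (((c1 : fixF σ) : F) + (c2 : fixF σ) * z₀) * ρ
      + σ ((((c1 : fixF σ) : F) + (c2 : fixF σ) * z₀) * ρ) + ((cb : fixF σ) : F) * (ρ * σ ρ) = (x₀ : F)
  rw [← hca, ← hcb, ← hc12]
  have hx : σ ((x₀ : F)) = x₀ := x₀.2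
  have hsum : μ * (x₀ : F) + σ (μ * x₀) = x₀ := by
    rw [map_mul, hx, ← add_mul, hμ, one_mul]
  rw [← hxeq] at hsum
  simp only [map_add, map_mul, map_div₀, hf.involutive] at hsum ⊢
  rw [← hxeq]
  linear_combination hsum

include D in
/-- A subgroup strictly above the subfield group has all centres. -/
theorem centre_of_not_le_four {r : ℕ} (hr : r.Prime) (hcard : Fintype.card F = Nat.card F₀ ^ r) (h3 : 3 ≤ r)
    (hcardE : Nat.card (fixF σ) = Nat.card (F₀.comap (fixF σ).subtype) ^ r)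
    (hn : 4 ≤ Fintype.card ι) {g : GL ι F} (hg : g ∈ M) (hgH : g ∉ Cfsg.Geo.subfieldSubgroup F₀ 1) :
    ∀ y, f y y = 0 → Centre D.herm M y := by
  obtain ⟨v, hv, hvv, hvL⟩ := exists_iso_moved_four D (by omega) hgH
  obtain ⟨a, ha, ha0, haa, ν, hν, hνt, hνM⟩ := long_root_exists_four D hr hcard h3 hcardE hn D.delta_ne
    D.delta_tr ((tmem_rat D hv hvv D.delta_mem D.delta_tr).conj hg (D.iso g hg)) hvL
  have hac := centre_of_root D hr hcardE ha ha0 haa hν hνt hνM
  exact fun y hy => centre_of_rat_four D (by omega) (fun u hu huu => centre_rat_four D (by omega) hac ha ha0 hu huu) hy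

/-- The subfield subgroups are maximal in the special unitary group. -/
theorem subfield_maximal_su_four {n q : ℕ} (hF : Fintype.card F = q ^ 2) (hn : 4 ≤ n) (F₀ : Subfield F)
    {r : ℕ} (hr : r.Prime) (hro : Odd r) (hcard : Fintype.card F = Nat.card F₀ ^ r)
    (P : GL (Fin n) F) (hP : Cfsg.Geo.IsFormRationalStructure (Cfsg.hermForm n F q) F₀ 1 P) :
    Cfsg.Geo.IsMaximalIn (Cfsg.GU n F q ⊓ Cfsg.Geo.specialLinear (Fin n) F)
      (Cfsg.Geo.subfieldSubgroup F₀ P ⊓ (Cfsg.GU n F q ⊓ Cfsg.Geo.specialLinear (Fin n) F)) := by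
  classical
  obtain ⟨σ, hσ, hstd⟩ := CfsgLib.LinAlg.Witt.exists_isUnitaryForm_hermForm (n := n) hF
  have h3 : 3 ≤ r := by
    rcases hro with ⟨k, hk⟩
    have := hr.two_le
    omega
  have hF0 : F₀ ≠ ⊤ := by
    intro h
    have e : Nat.card F₀ = Fintype.card F := by
      rw [h, Nat.card_congr Subfield.topEquiv.toEquiv, Nat.card_eq_fintype_card]
    rw [e] at hcard
    have := lt_self_pow₀ (Fintype.one_lt_card (α := F)) hr.one_lt
    omega
  have hconj : ∀ x ∈ F₀, σ x ∈ F₀ := fun x hx => hσ x ▸ F₀.pow_mem hx q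
  have hEsq : Nat.card (fixF σ) ^ 2 = Fintype.card F := by
    have hne : ∃ z ∈ (⊤ : Subfield F), σ z ≠ z := by
      by_contra h
      push Not at h
      exact hstd.ne_refl (RingEquiv.ext fun x => h x trivial)
    have := card_fix_sq hstd.involutive ⊤ (fun _ _ => trivial) hne
    rwa [Subfield.comap_top, Nat.card_congr Subfield.topEquiv.toEquiv, Nat.card_congr Subfield.topEquiv.toEquiv,
      Nat.card_eq_fintype_card (α := F)] at this
  have hne : ∃ z ∈ F₀, σ z ≠ z := by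
    by_contra h
    push Not at h
    haveI := Fintype.ofFinite (fixF σ)
    have heq : Nat.card (F₀.comap (fixF σ).subtype) = Nat.card F₀ :=
      Nat.card_congr
        { toFun := fun x => ⟨((x : fixF σ) : F), x.2⟩
          invFun := fun x => ⟨⟨x, h x x.2⟩, x.2⟩
          left_inv := fun x => rfl
          right_inv := fun x => rfl }
    obtain ⟨m, -, hm⟩ := CfsgLib.Dickson.exists_pow_card (F₀.comap (fixF σ).subtype)
    rw [heq, ← Nat.card_eq_fintype_card] at hm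
    rw [← hm, hcard, ← pow_mul] at hEsq
    have := Nat.pow_right_injective Finite.one_lt_card hEsq
    rcases hro with ⟨k, hk⟩
    omega
  have hcardE : Nat.card (fixF σ) = Nat.card (F₀.comap (fixF σ).subtype) ^ r := by
    apply Nat.pow_left_injective two_ne_zero
    show Nat.card (fixF σ) ^ 2 = (Nat.card (F₀.comap (fixF σ).subtype) ^ r) ^ 2
    rw [hEsq, hcard, ← pow_mul, mul_comm r 2, pow_mul, card_fix_sq hstd.involutive F₀ hconj hne]
  obtain ⟨z, hz, hzne⟩ := hne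
  refine ⟨lt_of_le_of_ne inf_le_right fun h => ?_, fun M hHM hMS => ?_⟩
  · exact CfsgLib.AschPrime.not_le_subfieldSubgroup hF (by omega) hF0 P (h ▸ inf_le_left)
  by_cases hle : M ≤ Cfsg.Geo.subfieldSubgroup F₀ P
  · exact Or.inl (le_antisymm (le_inf hle hMS) hHM)
  refine Or.inr (le_antisymm hMS ?_)
  obtain ⟨g, hg, hgH⟩ := SetLike.not_le_iff_exists.mp hle
  let f : (Fin n → F) → (Fin n → F) → F := fun x y =>
    Cfsg.hermForm n F q ((P : Matrix (Fin n) (Fin n) F) *ᵥ x) ((P : Matrix (Fin n) (Fin n) F) *ᵥ y)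
  have hPinj : ∀ v : Fin n → F, v ≠ 0 → (P : Matrix (Fin n) (Fin n) F) *ᵥ v ≠ 0 := fun v hv h => hv (by
    rw [← inv_mulVec_mulVec P v, h, mulVec_zero])
  have hf : Cfsg.Geo.IsUnitaryForm σ f :=
    { ne_refl := hstd.ne_refl
      involutive := hstd.involutive
      add_left := fun x y v => by simp [f, mulVec_add, hstd.add_left]
      smul_left := fun c x v => by simp [f, mulVec_smul, hstd.smul_left]
      herm := fun v w => hstd.herm _ _
      nondegenerate := fun v hv => by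
        obtain ⟨⟨x, hx⟩, ⟨y, hy⟩⟩ := hstd.nondegenerate _ (hPinj v hv)
        refine ⟨⟨((P⁻¹ : GL (Fin n) F) : Matrix (Fin n) (Fin n) F) *ᵥ x, ?_⟩,
          ⟨((P⁻¹ : GL (Fin n) F) : Matrix (Fin n) (Fin n) F) *ᵥ y, ?_⟩⟩
        · simp only [f, mulVec_inv_mulVec]; exact hx
        · simp only [f, mulVec_inv_mulVec]; exact hy }
  set c := (MulAut.conj P).toMonoidHom with hc
  have e0 : ∀ (x : GL (Fin n) F) (u : Fin n → F), (c x : GL (Fin n) F).val *ᵥ ((P : Matrix (Fin n) (Fin n) F) *ᵥ u)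
      = (P : Matrix (Fin n) (Fin n) F) *ᵥ ((x : Matrix (Fin n) (Fin n) F) *ᵥ u) := by
    intro x u
    rw [hc, MulEquiv.coe_toMonoidHom, MulAut.conj_apply, Units.val_mul, Units.val_mul, ← mulVec_mulVec,
      ← mulVec_mulVec, inv_mulVec_mulVec]
  have hmem : ∀ x : GL (Fin n) F, c x ∈ Cfsg.GU n F q ⊓ Cfsg.Geo.specialLinear (Fin n) F ↔
      Iso f x ∧ x ∈ Cfsg.Geo.specialLinear (Fin n) F := by
    intro x
    rw [CfsgLib.UnitCentres.mem_special]
    refine and_congr ⟨fun h u v => ?_, fun h u v => ?_⟩ ?_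
    · simp only [f, ← e0, h _ _]
    · have := h (((P⁻¹ : GL (Fin n) F) : Matrix (Fin n) (Fin n) F) *ᵥ u)
        (((P⁻¹ : GL (Fin n) F) : Matrix (Fin n) (Fin n) F) *ᵥ v)
      simp only [f, mulVec_inv_mulVec] at this
      rw [← e0 x, ← e0 x, mulVec_inv_mulVec, mulVec_inv_mulVec] at this
      exact this
    · simp [Cfsg.Geo.specialLinear, c]
  obtain ⟨δ, hδ, hδ0, hδt⟩ : ∃ δ ∈ F₀, δ ≠ 0 ∧ δ + σ δ = 0 :=
    ⟨z - σ z, F₀.sub_mem hz (hconj z hz), sub_ne_zero.2 (Ne.symm hzne), by rw [map_sub, hstd.involutive]; ring⟩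
  have D : RatData σ f F₀ (M.comap c) δ :=
    { herm := hf
      rat := fun u v hu hv => by simpa [f] using hP u v hu hv
      conj_mem := hconj
      delta_mem := hδ
      delta_ne := hδ0
      delta_tr := hδt
      conj_ne := ⟨z, hz, hzne⟩
      iso := fun x hx => ((hmem x).1 (hMS hx)).1
      rat_mem := fun x hx hxS hxr => hHM ⟨Subgroup.mem_map.mpr ⟨x, by
          simpa [Cfsg.Geo.subfieldSubgroup] using
            (mem_subfield_of_ratLine fun v hv => ⟨1, _, hxr v hv, (one_smul _ _).symm⟩ :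
              x ∈ Cfsg.Geo.subfieldSubgroup F₀ 1), rfl⟩, (hmem x).2 ⟨hx, hxS⟩⟩ }
  have hC := centre_of_not_le_four D hr hcard h3 hcardE (by simpa using hn) (g := P⁻¹ * g * P)
    (by simpa [c, ← mul_assoc] using hg) (by
      intro hm
      apply hgH
      simp only [Cfsg.Geo.subfieldSubgroup, Subgroup.mem_map] at hm ⊢
      obtain ⟨y, hy, hye⟩ := hm
      exact ⟨y, hy, by simp_all [mul_assoc]⟩)
  refine CfsgLib.UnitCentres.gu_le_of_centres hF (by omega) hσ hstd fun v hv => ⟨hv, fun d hd => ?_⟩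
  obtain ⟨hu, hM'⟩ := hC (((P⁻¹ : GL (Fin n) F) : Matrix (Fin n) (Fin n) F) *ᵥ v)
    (by simpa only [f, mulVec_inv_mulVec] using hv)
  have h5 : c (uT hf hu d) ∈ M := hM' d hd
  convert h5 using 1
  apply ext_mulVec
  intro x
  conv_rhs => rw [← mulVec_inv_mulVec P x, e0, uT_mulVec, mulVec_add, mulVec_smul, mulVec_inv_mulVec]
  rw [uT_mulVec]
  simp only [f, mulVec_inv_mulVec]

end CfsgLib.Subfield54.SU
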